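import Cfsg.Agent.Lib.Homog.FourTrans
import Mathlib.GroupTheory.GroupAction.Jordan
import Mathlib.GroupTheory.GroupAction.Primitive
import Mathlib.GroupTheory.Sylow
import Mathlib.GroupTheory.SpecificGroups.Alternating

/-!
# Primitive groups of degree `2p`: elements of order `p`
-/

set_option autoImplicit false
set_option linter.unusedSectionVars false

open MulAction
open scoped Pointwise

namespace CfsgLib.TwoP

variable {α : Type*} [Fintype α] [DecidableEq α] {G : Subgroup (Equiv.Perm α)} {p : ℕ}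

/-- No element of order `p` has a fixed point. -/
theorem no_fix (hp : p.Prime) (hα : Fintype.card α = 2 * p) (hG : IsPreprimitive G α)
    (h2 : ¬ IsMultiplyPretransitive G α 2) (g : G) (hg : g ^ p = 1) (hg1 : g ≠ 1) (x : α) :
    g • x ≠ x := by
  intro hx
  set σ : Equiv.Perm α := (g : Equiv.Perm α) with hσ
  have hσ1 : σ ≠ 1 := fun h => hg1 (Subtype.ext h)
  have hσp : σ ^ p = 1 := by rw [hσ, ← Subgroup.coe_pow, hg]; rfl
  haveI := Fact.mk hp
  have ho : orderOf σ = p := orderOf_eq_prime hσp hσ1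
  obtain ⟨m, hm⟩ := Equiv.Perm.cycleType_prime_order (σ := σ) (by rw [ho]; exact hp)
  have hsum := σ.sum_cycleType
  rw [hm, Multiset.sum_replicate, smul_eq_mul, ho] at hsum
  have hlt : σ.support.card < 2 * p := by
    rw [← hα]
    refine lt_of_le_of_ne (Finset.card_le_univ _) fun h => ?_
    have hx' : x ∈ σ.support := (Finset.eq_univ_of_card _ h).symm ▸ Finset.mem_univ x
    exact Equiv.Perm.mem_support.1 hx' hx
  have hm0 : m = 0 := by
    by_contra h
    have := Nat.mul_le_mul_right p (show 2 ≤ m + 1 by omega)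
    omega
  subst hm0
  have hcyc : σ.IsCycle := Equiv.Perm.card_cycleType_eq_one.1 (by rw [hm, Multiset.card_replicate])
  have hsupp : σ.support.card = p := by omega
  have hs : ((σ.support : Set α)ᶜ).ncard = (p - 1) + 1 := by
    rw [Set.ncard_compl, Set.ncard_coe_finset, hsupp, Nat.card_eq_fintype_card, hα]
    have := hp.one_lt
    omega
  have htr := Equiv.Perm.isPretransitive_of_isCycle_mem hcyc g.2
  have hprim : IsPreprimitive (fixingSubgroup G ((σ.support : Set α)ᶜ))
      (SubMulAction.ofFixingSubgroup G ((σ.support : Set α)ᶜ)) := by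
    haveI := htr
    refine IsPreprimitive.of_prime_card ?_
    have hc : Nat.card (SubMulAction.ofFixingSubgroup G ((σ.support : Set α)ᶜ)) = p := by
      rw [← hsupp, ← Set.ncard_coe_finset, ← Nat.card_coe_set_eq]
      exact Nat.card_congr (Equiv.subtypeEquivRight fun y => by
        simp [SubMulAction.mem_ofFixingSubgroup_iff])
    rw [hc]; exact hp
  have hmp := hG.isMultiplyPreprimitive hs
    (by rw [Nat.card_eq_fintype_card, hα]; have := hp.two_le; omega) hprim
  have := hmp.isMultiplyPretransitive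
  exact h2 (isMultiplyPretransitive_of_le (n := p - 1 + 2) (by omega)
    (by rw [Nat.card_eq_fintype_card, hα]; have := hp.two_le; omega))

/-- An element of order `p` exists. -/
theorem exists_sigma (hp : p.Prime) (hα : Fintype.card α = 2 * p) (hG : IsPreprimitive G α) :
    ∃ σ : G, orderOf σ = p := by
  haveI := Fact.mk hp
  haveI : IsPretransitive G α := hG.toIsPretransitive
  obtain ⟨a⟩ : Nonempty α := Fintype.card_pos_iff.1 (by have := hp.pos; omega)
  refine exists_prime_orderOf_dvd_card' p ?_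
  have h := (stabilizer G a).index_dvd_card
  rw [index_stabilizer_of_transitive, Nat.card_eq_fintype_card (α := α), hα] at h
  exact (dvd_mul_left p 2).trans h

section Orbits

variable (hp : p.Prime) (hα : Fintype.card α = 2 * p) (hG : IsPreprimitive G α)
  (h2 : ¬ IsMultiplyPretransitive G α 2) {σ : G} (hσ : orderOf σ = p)
include hp hα hG h2 hσ

theorem pow_free (g : G) (hg : g ∈ Subgroup.zpowers σ) (x : α) (hx : g • x = x) : g = 1 := by
  by_contra h
  have hgp : g ^ p = 1 := by
    obtain ⟨i, rfl⟩ := hg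
    rw [← zpow_natCast, ← zpow_mul, mul_comm, zpow_mul, zpow_natCast, ← hσ, pow_orderOf_eq_one,
      one_zpow]
  exact no_fix hp hα hG h2 g hgp h x hx

theorem card_orbit_eq (x : α) : Nat.card (orbit (Subgroup.zpowers σ) x) = p := by
  have h := (stabilizer (Subgroup.zpowers σ) x).card_mul_index
  have h1 : stabilizer (Subgroup.zpowers σ) x = ⊥ := by
    rw [Subgroup.eq_bot_iff_forall]
    exact fun g hg => Subtype.ext (pow_free hp hα hG h2 hσ g g.2 x hg)
  rw [h1, Subgroup.card_bot, one_mul, Nat.card_zpowers, hσ, ← h1, index_stabilizer] at h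
  rw [Nat.card_coe_set_eq, h]

/-- Any two points outside one orbit are in one orbit. -/
theorem mem_orbit_of_notMem (a : α) {x y : α} (hx : x ∉ orbit (Subgroup.zpowers σ) a)
    (hy : y ∉ orbit (Subgroup.zpowers σ) a) : y ∈ orbit (Subgroup.zpowers σ) x := by
  have hsub : orbit (Subgroup.zpowers σ) x ⊆ (orbit (Subgroup.zpowers σ) a)ᶜ := by
    intro z hz hza
    exact hx (by rw [← orbit_eq_iff.2 hza, orbit_eq_iff.2 hz]; exact mem_orbit_self x)
  have := Set.eq_of_subset_of_ncard_le hsub (by
    rw [Set.ncard_compl, ← Nat.card_coe_set_eq, ← Nat.card_coe_set_eq,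
      card_orbit_eq hp hα hG h2 hσ, card_orbit_eq hp hα hG h2 hσ, Nat.card_eq_fintype_card, hα]
    omega)
  rw [this]
  exact hy

theorem exists_not_mem (a : α) : ∃ b, b ∉ orbit (Subgroup.zpowers σ) a := by
  by_contra h
  push Not at h
  have hu : orbit (Subgroup.zpowers σ) a = Set.univ := Set.eq_univ_of_forall h
  have := card_orbit_eq hp hα hG h2 hσ a
  rw [hu, Nat.card_congr (Equiv.Set.univ α), Nat.card_eq_fintype_card, hα] at this
  have := hp.pos
  omega

/-- The centraliser is semiregular. -/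
theorem centralizer_free (g : G) (hg : Commute g σ) (x : α) (hx : g • x = x) : g = 1 := by
  have hfix : ∀ y ∈ orbit (Subgroup.zpowers σ) x, g • y = y := by
    rintro _ ⟨⟨u, hu⟩, rfl⟩
    obtain ⟨i, rfl⟩ := hu
    show g • (σ ^ i) • x = (σ ^ i) • x
    rw [← mul_smul, (hg.zpow_right i).eq, mul_smul, hx]
  obtain ⟨b, hb⟩ := exists_not_mem hp hα hG h2 hσ x
  have hgb : g • b ∉ orbit (Subgroup.zpowers σ) x := fun h => hb (by
    have := hfix _ h
    rw [← MulAction.injective g this]; exact h)
  obtain ⟨⟨u, hu⟩, hub⟩ := mem_orbit_of_notMem hp hα hG h2 hσ x hb hgb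
  have hub' : u • b = g • b := hub
  have hcu : Commute g u := by
    obtain ⟨i, rfl⟩ := hu
    exact hg.zpow_right i
  have hb' : ∀ y, y ∉ orbit (Subgroup.zpowers σ) x → g • y = u • y := by
    intro y hy
    obtain ⟨⟨w, hw⟩, rfl⟩ := mem_orbit_of_notMem hp hα hG h2 hσ x hb hy
    show g • w • b = u • w • b
    have h1 : Commute g w := by
      obtain ⟨i, rfl⟩ := hw
      exact hg.zpow_right i
    have h3 : Commute u w := by
      obtain ⟨i, rfl⟩ := hw
      obtain ⟨j, rfl⟩ := hu
      exact Commute.zpow_zpow_self σ j i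
    rw [← mul_smul, h1.eq, mul_smul, ← hub', ← mul_smul, ← h3.eq, mul_smul]
  have hgp : g ^ p = 1 := by
    refine Subtype.ext (Equiv.ext fun y => ?_)
    show (g ^ p) • y = y
    by_cases hy : y ∈ orbit (Subgroup.zpowers σ) x
    · have hall : g ∈ stabilizer G y := hfix y hy
      exact pow_mem hall p
    · have hk : ∀ k : ℕ, (g ^ k) • y = (u ^ k) • y := by
        intro k
        induction k with
        | zero => simp
        | succ k ih =>
          rw [pow_succ, mul_smul, hb' y hy, ← mul_smul, ((hcu.pow_left k)).eq, mul_smul, ih,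
            ← mul_smul, ← pow_succ']
      rw [hk p]
      obtain ⟨i, rfl⟩ := hu
      rw [← zpow_natCast, ← zpow_mul, mul_comm, zpow_mul, zpow_natCast, ← hσ, pow_orderOf_eq_one,
        one_zpow, one_smul]
  by_contra h
  exact no_fix hp hα hG h2 g hgp h x hx

/-- Elements of order `p` are powers of conjugates: the `p`-subgroups have order at most `p`. -/
theorem pgroup_card_le (hp2 : p ≠ 2) (Q : Subgroup G) (hQ : IsPGroup p Q) : Nat.card Q ∣ p := by
  haveI := Fact.mk hp
  have hfree : ∀ (g : Q) (x : α), g • x = x → g = 1 := by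
    intro g x hx
    by_contra hg
    obtain ⟨k, hk⟩ := hQ g
    obtain ⟨j, -, hj⟩ := (Nat.dvd_prime_pow hp).1 (orderOf_dvd_of_pow_eq_one hk)
    have hj1 : j ≠ 0 := fun h => hg (orderOf_eq_one_iff.1 (by rw [hj, h, pow_zero]))
    have hw : orderOf (g ^ p ^ (j - 1)) = p := by
      rw [orderOf_pow' _ (pow_ne_zero _ hp.ne_zero), hj, Nat.gcd_eq_right (pow_dvd_pow p (Nat.sub_le j 1)),
        Nat.pow_div (Nat.sub_le j 1) hp.pos, show j - (j - 1) = 1 by omega, pow_one]
    refine no_fix hp hα hG h2 ((g ^ p ^ (j - 1) : Q) : G) ?_ ?_ x ?_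
    · rw [← Subgroup.coe_pow, show (g ^ p ^ (j - 1)) ^ p = 1 by
        conv_lhs => arg 2; rw [← hw]
        rw [pow_orderOf_eq_one]]
      rfl
    · intro h
      rw [show g ^ p ^ (j - 1) = 1 from Subtype.ext h, orderOf_one] at hw
      exact hp.one_lt.ne hw
    · rw [Subgroup.coe_pow]
      exact pow_mem (show (g : G) ∈ stabilizer G x from hx) _
  have h := Cfsg.Agent.Lib.Homog.card_dvd_of_free (X := α) hfree
  rw [Nat.card_eq_fintype_card (α := α), hα] at h
  obtain ⟨k, hk⟩ := IsPGroup.iff_card.1 hQ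
  rw [hk] at h ⊢
  exact ((Nat.coprime_primes hp Nat.prime_two).2 hp2).pow_left k |>.dvd_of_dvd_mul_left h

end Orbits

end CfsgLib.TwoP
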