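import Cfsg.Agent.Lib.TwoP.Basic
import Cfsg.Agent.Lib.PermChar.Degrees
import Cfsg.Agent.Lib.Char.GaloisConj
import Cfsg.Agent.Lib.Char.CentralOver
import Cfsg.Agent.Lib.Char.Clifford
import Cfsg.Agent.Lib.OddChar.Coherence
import Mathlib.RingTheory.ZMod.UnitsCyclic

/-!
# The constituents of the permutation character in degree `2p`
-/

set_option autoImplicit false
set_option linter.unusedSectionVars false

open MulAction
open scoped ComplexConjugate

namespace CfsgLib.TwoP

open CfsgLib.Char CfsgLib.PermChar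

/-- A `k ≡ i` modulo `d` prime to `m`. -/
theorem exists_coprime_lift {d m i : ℕ} (hdm : d ∣ m) (hm : m ≠ 0) (hi : i.Coprime d) :
    ∃ k : ℕ, k.Coprime m ∧ k ≡ i [MOD d] := by
  haveI : NeZero m := ⟨hm⟩
  obtain ⟨u, hu⟩ := ZMod.unitsMap_surjective hdm (ZMod.unitOfCoprime i hi)
  refine ⟨(u : ZMod m).val, ZMod.val_coe_unit_coprime u, ?_⟩
  rw [← ZMod.natCast_eq_natCast_iff]
  have h := congrArg (fun x : (ZMod d)ˣ => (x : ZMod d)) hu
  simp only [ZMod.unitsMap_val, ZMod.coe_unitOfCoprime] at h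
  rw [ZMod.natCast_val, h]

theorem rank_two_imp {G : Type*} [Group G] {α : Type*} [MulAction G α] [Finite α] [IsPretransitive G α]
    (a : α) (h : Nat.card (orbitRel.Quotient (stabilizer G a) α) = 2) :
    IsMultiplyPretransitive G α 2 := by
  classical
  have hone : ∀ b c : α, b ≠ a → c ≠ a → ∃ g : G, g • a = a ∧ g • b = c := by
    intro b c hb hc
    by_contra hbc
    have hinj : Function.Injective
        (fun i : Fin 3 => (Quotient.mk'' (![a, b, c] i) : orbitRel.Quotient (stabilizer G a) α)) := by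
      intro i j hij
      obtain ⟨g, hg⟩ := orbitRel_apply.1 (Quotient.eq''.1 hij)
      have hga : (g : G) • a = a := g.2
      have hg' : (g : G) • ![a, b, c] j = ![a, b, c] i := hg
      fin_cases i <;> fin_cases j <;> simp at hg' ⊢ <;>
        first
          | exact hb ((MulAction.injective (g : G) (hg'.trans hga.symm)))
          | exact hc ((MulAction.injective (g : G) (hg'.trans hga.symm)))
          | exact hb (hg'.symm.trans hga)
          | exact hc (hg'.symm.trans hga)
          | exact hbc ⟨g, hga, hg'⟩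
          | exact hbc ⟨(g : G)⁻¹, by rw [inv_smul_eq_iff, hga], by rw [inv_smul_eq_iff, hg']⟩
    have := Nat.card_le_card_of_injective _ hinj
    rw [Nat.card_fin, h] at this
    omega
  rw [is_two_pretransitive_iff]
  intro x y z w hxy hzw
  obtain ⟨g, hg⟩ := exists_smul_eq G x a
  obtain ⟨g', hg'⟩ := exists_smul_eq G z a
  obtain ⟨k, hk, hk'⟩ := hone (g • y) (g' • w)
    (fun e => hxy (MulAction.injective g (hg.trans e.symm)))
    (fun e => hzw (MulAction.injective g' (hg'.trans e.symm)))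
  refine ⟨g'⁻¹ * k * g, ?_, ?_⟩
  · rw [mul_smul, mul_smul, hg, hk, inv_smul_eq_iff, hg']
  · rw [mul_smul, mul_smul, hk', inv_smul_smul]

variable {G : Type*} [Group G] [Fintype G] {α : Type*} [Fintype α] [DecidableEq α] [MulAction G α]
  {p : ℕ}

/-- The alternatives for the constituents. -/
theorem constituents (hp : p.Prime) (hα : Fintype.card α = 2 * p) [IsPretransitive G α]
    (hprim : IsPreprimitive G α) (h2 : ¬ IsMultiplyPretransitive G α 2) {σ : G} (hσ : orderOf σ = p)
    (hfree : ∀ (x : α), ∀ g ∈ Subgroup.zpowers σ, g • x = x → g = 1) (a : α)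
    (hC : ∀ g : G, Commute g σ → g ∈ Subgroup.zpowers σ)
    (hN : ∀ x ∈ Subgroup.normalizer (Subgroup.zpowers σ : Set G),
      ∃ u ∈ Subgroup.zpowers σ, (u * x) • a = a) :
    (Nat.card (orbitRel.Quotient (stabilizer G a) α) = 3 ∧ ∃ χ₁ χ₂ : G → ℂ,
      Cfsg.IsIrrCharacter G χ₁ ∧ Cfsg.IsIrrCharacter G χ₂ ∧
      ((fun g : G => (Nat.card (fixedBy α g) : ℂ)) = fun g => 1 + χ₁ g + χ₂ g) ∧
      χ₁ 1 = (p : ℂ) - 1 ∧ χ₂ 1 = p) ∨
    ∃ t : ℕ, 2 ≤ t ∧ Nat.card (orbitRel.Quotient (stabilizer G a) α) = t + 2 ∧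
      t * Nat.card ↥(Subgroup.normalizer (Subgroup.zpowers σ : Set G) ⊓ stabilizer G a) = p - 1 := by
  classical
  haveI := Fact.mk hp
  haveI : Nonempty α := ⟨a⟩
  set P := Subgroup.zpowers σ with hPdef
  haveI : Fintype P := Fintype.ofFinite _
  have hPc : Nat.card P = p := (Nat.card_zpowers σ).trans hσ
  have hp1 : 1 < p := hp.one_lt
  have hPab : ∀ u v : P, u * v = v * u := fun u v => by
    obtain ⟨i, hi⟩ := u.2
    obtain ⟨j, hj⟩ := v.2
    exact Subtype.ext (by
      show (u : G) * v = v * u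
      rw [← hi, ← hj]; exact (Commute.zpow_zpow_self σ i j).eq)
  have hab := fun ω : Cfsg.IrrCharacter P => CfsgLib.CharOver.abelian_irr hPab ω.2
  -- generators
  have hgen : ∀ u : P, u ≠ 1 → ∀ v : P, ∃ i : ℕ, v = u ^ i := by
    intro u hu v
    have h1 : Subgroup.zpowers u = ⊤ := by
      haveI : IsSimpleGroup P := isSimpleGroup_of_prime_card hPc
      refine (Subgroup.Normal.eq_bot_or_eq_top ?_).resolve_left (fun h => hu (Subgroup.zpowers_eq_bot.1 h))
      exact ⟨fun n hn g => by rw [hPab g n, mul_inv_cancel_right]; exact hn⟩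
    have h2 : v ∈ Subgroup.zpowers u := h1 ▸ Subgroup.mem_top v
    rw [← mem_powers_iff_mem_zpowers] at h2
    obtain ⟨i, hi⟩ := h2
    exact ⟨i, hi.symm⟩
  -- the permutation character on `P`
  have hπP : ∀ u : P, piFun G α (u : G) = if u = 1 then (2 * p : ℂ) else 0 := by
    intro u
    split_ifs with hu
    · subst hu
      rw [OneMemClass.coe_one, piFun_one, hα]; push_cast; ring
    · have : IsEmpty (fixedBy α (u : G)) := ⟨fun x => hu (Subtype.ext (hfree x u u.2 x.2))⟩
      simp [piFun]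
  have hπω : ∀ ω : Cfsg.IrrCharacter P, Cfsg.classInner (fun u : P => piFun G α (u : G)) ω.1 = 2 := by
    intro ω
    rw [Cfsg.classInner, Finset.sum_eq_single (1 : P)]
    · rw [hπP, if_pos rfl, (hab ω).1, map_one, mul_one, hPc]
      field_simp [show (p : ℂ) ≠ 0 from Nat.cast_ne_zero.2 hp.ne_zero]
    · intro u _ hu; rw [hπP, if_neg hu, zero_mul]
    · simp
  -- restriction multiplicities
  have hex : ∀ (χ : Cfsg.IrrCharacter G) (ω : Cfsg.IrrCharacter P),
      ∃ n : ℕ, Cfsg.classInner (fun u : P => χ.1 (u : G)) ω.1 = n := fun χ ω =>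
    IsCharacter.exists_nat_classInner
      (CfsgLib.Clifford.isCharacter_res (IsIrrCharacter.isCharacter χ.2) P) ω.2
  choose aa haa using hex
  have hsum2 : ∀ ω : Cfsg.IrrCharacter P,
      ∑ χ : Cfsg.IrrCharacter G, mult α χ.1 * aa χ ω = 2 := by
    intro ω
    have h := hπω ω
    rw [show (fun u : P => piFun G α (u : G)) =
        ∑ χ : Cfsg.IrrCharacter G, (mult α χ.1 : ℂ) • (fun u : P => χ.1 (u : G)) by
      funext u
      rw [piFun_eq_sum (G := G) (Ω := α)]
      simp [Finset.sum_apply]] at h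
    rw [classInner_sum_left] at h
    simp only [classInner_smul_left, haa] at h
    exact_mod_cast h
  have hdeg : ∀ χ : Cfsg.IrrCharacter G, ∑ ω : Cfsg.IrrCharacter P, aa χ ω = degree χ.1 := by
    intro χ
    have h := congrFun (IsCharacter.eq_sum_classInner
      (CfsgLib.Clifford.isCharacter_res (IsIrrCharacter.isCharacter χ.2) P)) 1
    simp only [haa, Finset.sum_apply, Pi.smul_apply, smul_eq_mul, (hab _).1, mul_one,
      OneMemClass.coe_one] at h
    rw [← IsCharacter.degree_cast (IsIrrCharacter.isCharacter χ.2)] at h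
    exact_mod_cast h.symm
  set ω₀ : Cfsg.IrrCharacter P := principalIrr with hω₀
  set χ1 : Cfsg.IrrCharacter G := principalIrr with hχ1
  have haa1 : aa χ1 ω₀ = 1 ∧ ∀ ω, ω ≠ ω₀ → aa χ1 ω = 0 := by
    have hres : (fun u : P => χ1.1 (u : G)) = ω₀.1 :=
      funext fun u => by rw [hχ1, hω₀, principalIrr_apply, principalIrr_apply]
    refine ⟨?_, fun ω hω => ?_⟩
    · have h := haa χ1 ω₀
      rw [hres, classInner_irr_self ω₀.2] at h
      exact_mod_cast h.symm
    · have h := haa χ1 ω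
      rw [hres, classInner_irr_of_ne ω₀.2 ω.2 (fun e => hω (Subtype.ext e.symm))] at h
      exact_mod_cast h.symm
  set I := Finset.univ.erase χ1 with hI
  have hm1 : mult α χ1.1 = 1 := mult_principal
  have hIsum : ∀ ω, ∑ χ ∈ I, mult α χ.1 * aa χ ω = 2 - aa χ1 ω := by
    intro ω
    have h := hsum2 ω
    rw [← Finset.add_sum_erase _ _ (Finset.mem_univ χ1), hm1, one_mul] at h
    simp only [hI]
    omega
  -- the constituent with a fixed vector
  obtain ⟨χ0, hχ0I, hm0, ha0, hother⟩ : ∃ χ0 ∈ I, mult α χ0.1 = 1 ∧ aa χ0 ω₀ = 1 ∧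
      ∀ χ ∈ I, χ ≠ χ0 → mult α χ.1 * aa χ ω₀ = 0 := by
    have h : ∑ χ ∈ I, mult α χ.1 * aa χ ω₀ = 1 := by rw [hIsum, haa1.1]
    obtain ⟨χ0, hχ0, hne⟩ := Finset.exists_ne_zero_of_sum_ne_zero (by rw [h]; exact one_ne_zero)
    rw [← Finset.add_sum_erase _ _ hχ0] at h
    have h1 : mult α χ0.1 * aa χ0 ω₀ = 1 := by omega
    obtain ⟨e1, e2⟩ := mul_eq_one.1 h1
    exact ⟨χ0, hχ0, e1, e2, fun χ hχ hne' =>
      (Finset.sum_eq_zero_iff.1 (show ∑ x ∈ I.erase χ0, mult α x.1 * aa x ω₀ = 0 by omega))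
        χ (Finset.mem_erase.2 ⟨hne', hχ⟩)⟩
  have hχ01 : χ0 ≠ χ1 := Finset.ne_of_mem_erase hχ0I
  -- it is rational
  have hrat : ∀ k : ℕ, k.Coprime (Nat.card G) → ∀ g : G, χ0.1 (g ^ k) = χ0.1 g := by
    intro k hk g
    have hkP : k.Coprime (Nat.card P) := hk.coprime_dvd_right (Subgroup.card_subgroup_dvd_card P)
    set ψ := CfsgLib.CharGalois.powIrr hk χ0 with hψ
    have hmψ : mult α ψ.1 = mult α χ0.1 := by
      have h1 := cast_mult (Ω := α) ψ.2
      have h2 : Cfsg.classInner (piFun G α) ψ.1 = Cfsg.classInner (piFun G α) χ0.1 := by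
        unfold Cfsg.classInner
        congr 1
        refine Fintype.sum_equiv (powCoprime (G := G) hk.symm) _ _ fun x => ?_
        show piFun G α x * conj (χ0.1 (x ^ k)) = piFun G α (x ^ k) * conj (χ0.1 (x ^ k))
        congr 1
        show (Nat.card (fixedBy α x) : ℂ) = Nat.card (fixedBy α (x ^ k))
        congr 1
        refine Nat.card_congr (Equiv.subtypeEquivRight fun y => ?_)
        show x • y = y ↔ (x ^ k) • y = y
        constructor
        · exact fun h => pow_mem (show x ∈ stabilizer G y from h) k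
        · intro h
          have hco : k.Coprime (orderOf x) := hk.coprime_dvd_right (orderOf_dvd_natCard x)
          obtain ⟨m, hm⟩ := exists_pow_eq_self_of_coprime hco
          have h' : (x ^ k) ^ m ∈ stabilizer G y := pow_mem (show x ^ k ∈ stabilizer G y from h) m
          rwa [hm] at h'
      rw [h2, ← cast_mult χ0.2] at h1
      exact_mod_cast h1
    have haψ : aa ψ ω₀ = aa χ0 ω₀ := by
      have h1 := haa ψ ω₀
      have h2 : Cfsg.classInner (fun u : P => ψ.1 (u : G)) ω₀.1 =
          Cfsg.classInner (fun u : P => χ0.1 (u : G)) ω₀.1 := by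
        unfold Cfsg.classInner
        congr 1
        refine Fintype.sum_equiv (powCoprime (G := P) hkP.symm) _ _ fun u => ?_
        show ψ.1 (u : G) * conj (ω₀.1 u) = χ0.1 ((u ^ k : P) : G) * conj (ω₀.1 (u ^ k))
        rw [hω₀, principalIrr_apply, principalIrr_apply, Subgroup.coe_pow]
        rfl
      rw [h2, haa] at h1
      exact_mod_cast h1.symm
    have hψ1 : ψ ≠ χ1 := fun e => hχ01 ((CfsgLib.CharGalois.powIrr_bijective hk).1 (a₁ := χ0)
      (a₂ := χ1) (by
        rw [← hψ, e]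
        exact Subtype.ext (funext fun x => by
          rw [CfsgLib.CharGalois.powIrr_apply, hχ1, principalIrr_apply, principalIrr_apply])))
    have hψ0 : ψ = χ0 := by
      by_contra hne
      have := hother ψ (Finset.mem_erase.2 ⟨hψ1, Finset.mem_univ _⟩) hne
      rw [hmψ, haψ, hm0, ha0] at this
      exact one_ne_zero this
    exact congrFun (congrArg Subtype.val hψ0) g
  -- constant on the nontrivial elements
  let s : P := ⟨σ, Subgroup.mem_zpowers σ⟩
  have hs1 : s ≠ 1 := fun h => by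
    have h' : σ = 1 := congrArg Subtype.val h
    rw [h', orderOf_one] at hσ; exact hp1.ne hσ
  have hconst : ∀ u : P, u ≠ 1 → χ0.1 (u : G) = χ0.1 σ := by
    intro u hu
    obtain ⟨i, rfl⟩ := hgen s hs1 u
    have hi : i.Coprime p := by
      refine ((hp.coprime_iff_not_dvd).2 fun ⟨q, hq⟩ => hu ?_).symm
      have : σ ^ i = 1 := by rw [hq, pow_mul, ← hσ, pow_orderOf_eq_one, one_pow]
      exact Subtype.ext this
    obtain ⟨k, hk, hki⟩ := exists_coprime_lift (d := p) (m := Nat.card G)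
      (hσ ▸ orderOf_dvd_natCard σ) Nat.card_pos.ne' hi
    rw [← hrat k hk σ]
    show χ0.1 (σ ^ i) = χ0.1 (σ ^ k)
    rw [pow_eq_pow_iff_modEq.2 (hσ.symm ▸ hki.symm)]
  set f0 := degree χ0.1 with hf0
  have hc : (f0 : ℂ) + ((p : ℂ) - 1) * χ0.1 σ = p := by
    have h := haa χ0 ω₀
    rw [ha0, Nat.cast_one, Cfsg.classInner] at h
    have hsum : ∑ u : P, χ0.1 (u : G) * conj (ω₀.1 u) = (f0 : ℂ) + ((p : ℂ) - 1) * χ0.1 σ := by
      rw [← Finset.add_sum_erase _ _ (Finset.mem_univ (1 : P))]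
      have hE : ∀ u ∈ Finset.univ.erase (1 : P), χ0.1 (u : G) * conj (ω₀.1 u) = χ0.1 σ := fun u hu => by
        rw [hconst u (Finset.ne_of_mem_erase hu), hω₀, principalIrr_apply, map_one, mul_one]
      rw [Finset.sum_congr rfl hE, Finset.sum_const, Finset.card_erase_of_mem (Finset.mem_univ _),
        Finset.card_univ, ← Nat.card_eq_fintype_card, hPc, nsmul_eq_mul, Nat.cast_sub hp1.le,
        OneMemClass.coe_one, ← IsCharacter.degree_cast (IsIrrCharacter.isCharacter χ0.2), hω₀,
        principalIrr_apply, map_one, mul_one, Nat.cast_one]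
    rw [hsum, inv_mul_eq_one₀ (Nat.cast_ne_zero.2 Nat.card_pos.ne'), hPc] at h
    exact h.symm
  obtain ⟨z, hz⟩ : ∃ z : ℤ, χ0.1 σ = z := by
    have hp0 : ((p : ℂ) - 1) ≠ 0 := sub_ne_zero.2 (by exact_mod_cast hp1.ne')
    have hq : χ0.1 σ = (((p : ℚ) - f0) / ((p : ℚ) - 1) : ℚ) := by
      push_cast
      rw [eq_div_iff hp0]
      linear_combination hc
    obtain ⟨n, ρ, -, hρ⟩ := χ0.2
    have hi := CfsgLib.Char.isIntegral_character ρ σ
    rw [hρ, hq] at hi
    obtain ⟨z, hz⟩ := exists_int_of_isIntegral_ratCast hi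
    exact ⟨z, by rw [hq, ← hz]; simp⟩
  rw [hz] at hc
  have hc' : (f0 : ℤ) + ((p : ℤ) - 1) * z = p := by exact_mod_cast hc
  have hnd : 1 + ∑ χ ∈ I, mult α χ.1 * degree χ.1 = 2 * p := hα ▸ sum_nonprincipal_degree (G := G) a
  have hsq : 1 + ∑ χ ∈ I, mult α χ.1 * mult α χ.1 = Nat.card (orbitRel.Quotient (stabilizer G a) α) :=
    sum_nonprincipal_sq (G := G) a
  set R := I.erase χ0 with hR
  rw [← Finset.add_sum_erase _ _ hχ0I, hm0, one_mul, ← hf0, ← hR] at hnd
  rw [← Finset.add_sum_erase _ _ hχ0I, hm0, one_mul, ← hR] at hsq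
  -- degree one is impossible
  have hf1 : f0 ≠ 1 := by
    intro hf
    have hd : χ0.1 1 = 1 := by
      rw [← IsCharacter.degree_cast (IsIrrCharacter.isCharacter χ0.2), ← hf0, hf, Nat.cast_one]
    obtain ⟨lam, hlam⟩ := IsCharacter.exists_linear (IsIrrCharacter.isCharacter χ0.2) hd
    have hσlam : lam σ = 1 := by
      have hz1 : z = 1 := by
        rw [hf] at hc'
        exact mul_left_cancel₀ (show ((p : ℤ) - 1) ≠ 0 by omega) (by rw [mul_one]; omega)
      exact Units.ext (by rw [Units.val_one, ← hlam σ, hz, hz1, Int.cast_one])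
    have hne : Cfsg.classInner (piFun G α) χ0.1 ≠ 0 := by
      rw [← cast_mult χ0.2, hm0]; simp
    obtain ⟨x, hx⟩ : ∃ x : α, ∀ g : G, g • x = x → lam g = 1 := by
      by_contra hall
      push Not at hall
      refine hne ?_
      rw [Cfsg.classInner]
      have hswap : ∑ g : G, piFun G α g * conj (χ0.1 g) =
          ∑ x : α, ∑ g : G, if g • x = x then conj (χ0.1 g) else 0 := by
        rw [Finset.sum_comm]
        refine Finset.sum_congr rfl fun g _ => ?_
        rw [← Finset.sum_filter, Finset.sum_const, nsmul_eq_mul]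
        congr 1
        simp only [piFun, Nat.card_eq_fintype_card]
        congr 1
        exact Fintype.card_of_subtype _ (fun y => by simp [fixedBy])
      rw [hswap, Finset.sum_eq_zero (fun x _ => ?_), mul_zero]
      obtain ⟨g₀, hg₀, hl₀⟩ := hall x
      rw [← Finset.sum_filter]
      set S := ∑ g ∈ Finset.univ.filter (fun g : G => g • x = x), conj (χ0.1 g) with hS
      have hmul : conj (lam g₀ : ℂ) * S = S := by
        rw [hS, Finset.mul_sum]
        refine Finset.sum_equiv (Equiv.mulLeft g₀) (fun g => ?_) (fun g _ => ?_)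
        · simp only [Finset.mem_filter, Finset.mem_univ, true_and, Equiv.coe_mulLeft, mul_smul]
          rw [smul_eq_iff_eq_inv_smul g₀, show g₀⁻¹ • x = x by rw [inv_smul_eq_iff, hg₀]]
        · rw [Equiv.coe_mulLeft, hlam, hlam, map_mul lam, Units.val_mul, map_mul]
      by_contra hS0
      refine hl₀ (Units.ext ?_)
      have h1 : conj (lam g₀ : ℂ) = 1 := by
        refine mul_right_cancel₀ hS0 ?_
        rw [hmul, one_mul]
      simpa using congrArg conj h1
    haveI : Nontrivial α := Fintype.one_lt_card_iff_nontrivial.1 (by omega)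
    have hker : stabilizer G x ≤ lam.ker := fun g hg => hx g hg
    have hco : IsCoatom (stabilizer G x) := (isCoatom_stabilizer_iff_preprimitive G x).2 hprim
    have hσx : σ ∉ stabilizer G x := fun h => by
      have h' := hfree x σ (Subgroup.mem_zpowers σ) h
      rw [h', orderOf_one] at hσ; exact hp1.ne hσ
    rcases hker.eq_or_lt with h | h
    · exact hσx (h ▸ (show σ ∈ lam.ker from hσlam))
    · have htop := hco.2 _ h
      refine hχ01 (Subtype.ext (funext fun g => ?_))
      rw [hχ1, principalIrr_apply, hlam, show lam g = 1 from (htop ▸ Subgroup.mem_top g : g ∈ lam.ker),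
        Units.val_one]
  have hf0pos : 0 < f0 := IsIrrCharacter.degree_pos χ0.2
  have hz01 : z = 0 ∨ z = -1 := by
    have h1 : (1 : ℤ) < f0 := by omega
    have h2 : (f0 : ℤ) ≤ 2 * p - 1 := by omega
    have hp1' : (1 : ℤ) < p := by exact_mod_cast hp1
    rcases le_or_gt 1 z with h | h
    · nlinarith
    rcases le_or_gt z (-2) with h' | h'
    · nlinarith
    · omega
  rcases hz01 with hz0 | hz0
  swap
  · exfalso
    subst hz0
    have hR0 : ∀ χ ∈ R, mult α χ.1 = 0 := by
      intro χ hχ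
      have hs : ∑ χ ∈ R, mult α χ.1 * degree χ.1 = 0 := by
        have : f0 = 2 * p - 1 := by omega
        omega
      have := (Finset.sum_eq_zero_iff.1 hs) χ hχ
      rcases mul_eq_zero.1 this with h | h
      · exact h
      · exact absurd h (IsIrrCharacter.degree_pos χ.2).ne'
    refine h2 (rank_two_imp a ?_)
    rw [← hsq, Finset.sum_eq_zero fun χ hχ => by rw [hR0 χ hχ, mul_zero]]
    all_goals rfl
  subst hz0
  have hf0p : f0 = p := by omega
  have haa0 : ∀ ω, aa χ0 ω = 1 := by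
    intro ω
    have h := haa χ0 ω
    rw [Cfsg.classInner, Finset.sum_eq_single (1 : P) (fun u _ hu => by
      rw [hconst u hu, hz, Int.cast_zero, zero_mul]) (by simp),
      (hab ω).1, map_one, mul_one, OneMemClass.coe_one,
      ← IsCharacter.degree_cast (IsIrrCharacter.isCharacter χ0.2), ← hf0, hf0p, hPc,
      inv_mul_cancel₀ (Nat.cast_ne_zero.2 hp.ne_zero)] at h
    exact_mod_cast h.symm
  have hR1 : ∀ ω, ω ≠ ω₀ → ∑ χ ∈ R, mult α χ.1 * aa χ ω = 1 := by
    intro ω hω
    have h := hIsum ω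
    rw [← Finset.add_sum_erase _ _ hχ0I, hm0, haa0, haa1.2 ω hω, ← hR] at h
    omega
  have hR0' : ∀ χ ∈ R, mult α χ.1 * aa χ ω₀ = 0 := fun χ hχ =>
    hother χ (Finset.mem_of_mem_erase hχ) (Finset.ne_of_mem_erase hχ)
  set R' := R.filter fun χ => mult α χ.1 ≠ 0 with hR'
  have hsupp : ∀ χ ∈ R', ∃ ω, ω ≠ ω₀ ∧ aa χ ω ≠ 0 := by
    intro χ hχ
    obtain ⟨hχR, hm⟩ := Finset.mem_filter.1 hχ
    by_contra hno
    push Not at hno
    have : degree χ.1 = 0 := by
      rw [← hdeg χ]
      refine Finset.sum_eq_zero fun ω _ => ?_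
      by_cases hω : ω = ω₀
      · subst hω
        rcases mul_eq_zero.1 (hR0' χ hχR) with h | h
        · exact absurd h hm
        · exact h
      · exact hno ω hω
    exact (IsIrrCharacter.degree_pos χ.2).ne' this
  have huniq : ∀ χ ∈ R', ∀ ω, ω ≠ ω₀ → aa χ ω ≠ 0 →
      mult α χ.1 = 1 ∧ aa χ ω = 1 ∧ ∀ χ' ∈ R', χ' ≠ χ → aa χ' ω = 0 := by
    intro χ hχ ω hω hne
    obtain ⟨hχR, hm⟩ := Finset.mem_filter.1 hχ
    have h := hR1 ω hω
    rw [← Finset.add_sum_erase _ _ hχR] at h
    have hpos : 0 < mult α χ.1 * aa χ ω := Nat.mul_pos (Nat.pos_of_ne_zero hm) (Nat.pos_of_ne_zero hne)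
    obtain ⟨e1, e2⟩ := mul_eq_one.1 (show mult α χ.1 * aa χ ω = 1 by omega)
    refine ⟨e1, e2, fun χ' hχ' hne' => ?_⟩
    obtain ⟨hχR', hm'⟩ := Finset.mem_filter.1 hχ'
    rcases mul_eq_zero.1 ((Finset.sum_eq_zero_iff.1
      (show ∑ x ∈ R.erase χ, mult α x.1 * aa x ω = 0 by omega)) χ'
        (Finset.mem_erase.2 ⟨hne', hχR'⟩)) with h' | h'
    · exact absurd h' hm'
    · exact h'
  have hmR : ∀ χ ∈ R', mult α χ.1 = 1 := fun χ hχ => by
    obtain ⟨ω, hω, hne⟩ := hsupp χ hχ
    exact (huniq χ hχ ω hω hne).1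
  have hrank : Nat.card (orbitRel.Quotient (stabilizer G a) α) = R'.card + 2 := by
    rw [← hsq, ← Finset.sum_filter_of_ne (p := fun χ : Cfsg.IrrCharacter G => mult α χ.1 ≠ 0)
      (fun χ _ h h0 => h (by rw [h0, mul_zero]))]
    rw [← hR', Finset.sum_congr rfl (fun χ hχ => by rw [hmR χ hχ, mul_one]), Finset.sum_const,
      smul_eq_mul, mul_one]
    omega
  have hsumdeg : ∑ χ ∈ R', degree χ.1 = p - 1 := by
    rw [← Finset.sum_filter_of_ne (p := fun χ : Cfsg.IrrCharacter G => mult α χ.1 ≠ 0)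
      (fun χ _ h h0 => h (by rw [h0, zero_mul])), ← hR',
      Finset.sum_congr rfl (fun χ hχ => by rw [hmR χ hχ, one_mul])] at hnd
    omega
  rcases Nat.lt_or_ge R'.card 2 with ht | ht
  · left
    have hne : R'.Nonempty := by
      rw [Finset.nonempty_iff_ne_empty]
      intro h
      rw [h, Finset.sum_empty] at hsumdeg
      omega
    have ht1 : R'.card = 1 := by have := hne.card_pos; omega
    obtain ⟨χ, hχ⟩ := Finset.card_eq_one.1 ht1
    refine ⟨by rw [hrank, ht1], χ.1, χ0.1, χ.2, χ0.2, ?_, ?_, ?_⟩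
    · funext g
      show piFun G α g = _
      rw [piFun_eq_sum (G := G) (Ω := α), Finset.sum_apply,
        ← Finset.add_sum_erase _ _ (Finset.mem_univ χ1), ← hI,
        ← Finset.add_sum_erase _ _ hχ0I, ← hR,
        ← Finset.sum_filter_of_ne (s := R) (p := fun χ : Cfsg.IrrCharacter G => mult α χ.1 ≠ 0)
          (fun χ _ h h0 => h (by simp [h0])), ← hR', hχ, Finset.sum_singleton]
      simp only [Pi.smul_apply, smul_eq_mul, hm1, hm0,
        hmR χ (by rw [hχ]; exact Finset.mem_singleton_self χ), Nat.cast_one, one_mul]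
      rw [hχ1, principalIrr_apply]
      ring
    · rw [← IsCharacter.degree_cast (IsIrrCharacter.isCharacter χ.2)]
      rw [hχ, Finset.sum_singleton] at hsumdeg
      rw [hsumdeg, Nat.cast_sub hp1.le, Nat.cast_one]
    · rw [← IsCharacter.degree_cast (IsIrrCharacter.isCharacter χ0.2), ← hf0, hf0p]
  right
  refine ⟨R'.card, ht, hrank, ?_⟩
  -- conjugation of characters of `P` by the normaliser
  set N := Subgroup.normalizer (P : Set G) with hNdef
  let cj : N → P ≃* P := fun x =>
    { toFun := fun u => ⟨(x : G)⁻¹ * u * x, (Subgroup.mem_normalizer_iff''.1 x.2 u).1 u.2⟩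
      invFun := fun u => ⟨(x : G) * u * (x : G)⁻¹, (Subgroup.mem_normalizer_iff.1 x.2 u).1 u.2⟩
      left_inv := fun u => Subtype.ext (by simp [mul_assoc])
      right_inv := fun u => Subtype.ext (by simp [mul_assoc])
      map_mul' := fun u v => Subtype.ext (by simp [mul_assoc]) }
  let act : N → Cfsg.IrrCharacter P → Cfsg.IrrCharacter P := fun x ω =>
    ⟨ω.1 ∘ cj x, IsIrrCharacter.comp_mulEquiv ω.2 _⟩
  have hact : ∀ (x : N) (ω : Cfsg.IrrCharacter P) (u : P), (act x ω).1 u = ω.1 (cj x u) :=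
    fun _ _ _ => rfl
  have hinjω : ∀ ω : Cfsg.IrrCharacter P, ω ≠ ω₀ → ∀ u v : P, ω.1 u = ω.1 v → u = v := by
    intro ω hω u v huv
    by_contra hne
    have hw : ω.1 (u * v⁻¹) = 1 := by
      rw [(hab ω).2.1, huv, ← (hab ω).2.1, mul_inv_cancel, (hab ω).1]
    refine hω (Subtype.ext (funext fun w => ?_))
    obtain ⟨i, rfl⟩ := hgen (u * v⁻¹) (fun h => hne (mul_inv_eq_one.1 h)) w
    rw [hω₀, principalIrr_apply]
    clear hne huv
    induction i with
    | zero => rw [pow_zero, (hab ω).1]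
    | succ i ih => rw [pow_succ, (hab ω).2.1, ih, hw, mul_one]
  have hstab : ∀ ω : Cfsg.IrrCharacter P, ω ≠ ω₀ → ∀ x : N, act x ω = ω → (x : G) ∈ P := by
    intro ω hω x hx
    refine hC _ ?_
    have h1 : cj x s = s := hinjω ω hω _ _ (by rw [← hact, hx])
    have h2 : (x : G)⁻¹ * σ * x = σ := congrArg Subtype.val h1
    rw [mul_assoc, inv_mul_eq_iff_eq_mul] at h2
    exact h2.symm
  have hfix : ∀ x : N, (x : G) ∈ P → ∀ ω, act x ω = ω := by
    intro x hx ω
    refine Subtype.ext (funext fun u => ?_)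
    rw [hact]
    refine congrArg ω.1 (Subtype.ext ?_)
    show (x : G)⁻¹ * u * x = u
    rw [mul_assoc, show (u : G) * x = x * u from congrArg Subtype.val (hPab u ⟨x, hx⟩),
      inv_mul_cancel_left]
  have haact : ∀ (χ : Cfsg.IrrCharacter G) (x : N) (ω : Cfsg.IrrCharacter P),
      aa χ (act x ω) = aa χ ω := by
    intro χ x ω
    have h : Cfsg.classInner (fun u : P => χ.1 (u : G)) (act x ω).1 =
        Cfsg.classInner (fun u : P => χ.1 (u : G)) ω.1 := by
      unfold Cfsg.classInner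
      congr 1
      refine Fintype.sum_equiv (cj x).toEquiv _ _ fun u => ?_
      show χ.1 (u : G) * conj ((act x ω).1 u) = χ.1 ((cj x u : P) : G) * conj (ω.1 (cj x u))
      rw [hact]
      congr 1
      exact (IsClassFunction.eq_of_isConj (IsIrrCharacter.isClassFunction χ.2)
        (isConj_iff.2 ⟨(x : G)⁻¹, by show _ = (x : G)⁻¹ * u * x; rw [inv_inv]⟩))
    rw [haa, haa] at h
    exact_mod_cast h
  -- two characters in one constituent are conjugate
  have hconj : ∀ χ ∈ R', ∀ ω ω', ω ≠ ω₀ → ω' ≠ ω₀ → aa χ ω ≠ 0 → aa χ ω' ≠ 0 →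
      ∃ x : N, act x ω = ω' := by
    intro χ hχ ω ω' hω hω' h1 h2
    by_contra hno
    obtain ⟨χ', hχ', hne⟩ := Finset.exists_mem_ne (show 1 < R'.card by omega) χ
    obtain ⟨ω'', hω'', h3⟩ := hsupp χ' hχ'
    have hω12 : ∀ x : N, act x ω ≠ ω'' := fun x hx => h3 (by
      rw [← hx, haact]; exact (huniq χ hχ ω hω h1).2.2 χ' hχ' hne)
    have hω22 : ∀ x : N, act x ω' ≠ ω'' := fun x hx => h3 (by
      rw [← hx, haact]; exact (huniq χ hχ ω' hω' h2).2.2 χ' hχ' hne)
    have hinner : ∀ ω₁ ω₂ : Cfsg.IrrCharacter P, ω₁ ≠ ω₀ → ω₂ ≠ ω₀ → (∀ x : N, act x ω₁ ≠ ω₂) →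
        Cfsg.classInner (Cfsg.indFun P (ω₁.1 - ω₂.1)) (Cfsg.indFun P (ω₁.1 - ω₂.1)) = 2 := by
      intro ω₁ ω₂ hn₁ hn₂ hnc
      set θ : P → ℂ := ω₁.1 - ω₂.1 with hθ
      have hθ1 : θ 1 = 0 := by simp [hθ, (hab _).1]
      rw [classInner_indFun P θ _ (isClassFunction_indFun P θ)]
      have hval : ∀ u : P, u ≠ 1 →
          Cfsg.indFun P θ (u : G) = (p : ℂ)⁻¹ * ∑ x : N, θ (cj x u) := by
        intro u hu
        rw [indFun_apply, hPc]
        congr 1
        rw [← Finset.sum_subset (s₁ := Finset.univ.filter (· ∈ N)) (Finset.subset_univ _) ?_]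
        · rw [Finset.sum_subtype (Finset.univ.filter (· ∈ N)) (p := fun x => x ∈ N) (fun x => by simp)]
          refine Finset.sum_congr rfl fun x _ => ?_
          exact extendByZero_coe P θ (cj x u)
        · intro x _ hx
          refine extendByZero_of_notMem P θ fun hmem => hx (Finset.mem_filter.2 ⟨Finset.mem_univ _, ?_⟩)
          rw [hNdef, Subgroup.mem_normalizer_iff'']
          have hle : ∀ v : G, v ∈ P → x⁻¹ * v * x ∈ P := by
            intro v hv
            obtain ⟨i, hi⟩ := hgen u hu ⟨v, hv⟩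
            have hv' : v = (u : G) ^ i := by rw [← Subgroup.coe_pow, ← hi]
            have hc' := conj_pow (a := x⁻¹) (b := (u : G)) (i := i)
            rw [inv_inv] at hc'
            rw [hv', ← hc']
            exact pow_mem hmem i
          intro v
          refine ⟨hle v, fun hv => ?_⟩
          let g' : P → P := fun w => ⟨x⁻¹ * w * x, hle w w.2⟩
          obtain ⟨w, hw⟩ := (Finite.injective_iff_surjective (f := g')).1 (fun w w' h => by
            have h' : x⁻¹ * (w : G) * x = x⁻¹ * (w' : G) * x := congrArg Subtype.val h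
            exact Subtype.ext (mul_left_cancel (mul_right_cancel h'))) ⟨_, hv⟩
          have hw' : x⁻¹ * (w : G) * x = x⁻¹ * v * x := congrArg Subtype.val hw
          rw [← mul_left_cancel (mul_right_cancel hw')]
          exact w.2
      have hfun : (fun u : P => Cfsg.indFun P θ (u : G)) = fun u =>
          if u = 1 then 0 else ((p : ℂ)⁻¹ • ∑ x : N, ((act x ω₁).1 - (act x ω₂).1)) u := by
        funext u
        split_ifs with hu
        · subst hu
          rw [OneMemClass.coe_one, indFun_apply_one, hθ1, mul_zero]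
        · rw [hval u hu, Pi.smul_apply, smul_eq_mul, Finset.sum_apply]
          rfl
      have hrepl : Cfsg.classInner θ (fun u : P => Cfsg.indFun P θ (u : G)) =
          Cfsg.classInner θ ((p : ℂ)⁻¹ • ∑ x : N, ((act x ω₁).1 - (act x ω₂).1)) := by
        rw [hfun]
        unfold Cfsg.classInner
        congr 1
        refine Finset.sum_congr rfl fun u _ => ?_
        by_cases hu : u = 1
        · subst hu; rw [hθ1, zero_mul, zero_mul]
        · simp only [if_neg hu]
      rw [hrepl, classInner_smul_right, classInner_sum_right]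
      have hterm : ∀ x : N, Cfsg.classInner θ ((act x ω₁).1 - (act x ω₂).1) =
          if (x : G) ∈ P then 2 else 0 := by
        intro x
        rw [hθ, classInner_sub_left, classInner_sub_right, classInner_sub_right,
          classInner_irrCharacter, classInner_irrCharacter, classInner_irrCharacter,
          classInner_irrCharacter]
        have hne12 : ω₁ ≠ ω₂ := fun h => hnc 1 (by rw [hfix 1 P.one_mem]; exact h)
        have e1 : (ω₁ = act x ω₁) ↔ (x : G) ∈ P :=
          ⟨fun h => hstab ω₁ hn₁ x h.symm, fun h => (hfix x h ω₁).symm⟩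
        have e2 : (ω₂ = act x ω₂) ↔ (x : G) ∈ P :=
          ⟨fun h => hstab ω₂ hn₂ x h.symm, fun h => (hfix x h ω₂).symm⟩
        have e3 : ω₂ ≠ act x ω₁ := fun h => hnc x h.symm
        have e4 : ω₁ ≠ act x ω₂ := by
          intro h
          refine hnc x⁻¹ (Subtype.ext (funext fun u => ?_))
          rw [hact, h, hact]
          exact congrArg ω₂.1 (Subtype.ext (by simp [cj, mul_assoc]))
        simp only [e1, e2, if_neg e3, if_neg e4]
        split_ifs <;> norm_num
      rw [Finset.sum_congr rfl (fun x _ => hterm x), ← Finset.sum_filter, Finset.sum_const,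
        nsmul_eq_mul]
      have hcardP : (Finset.univ.filter fun x : N => (x : G) ∈ P).card = p := by
        rw [← hPc, Nat.card_eq_fintype_card, ← Fintype.card_subtype]
        exact Fintype.card_congr
          { toFun := fun x => ⟨(x.1 : G), x.2⟩
            invFun := fun u => ⟨⟨u.1, Subgroup.le_normalizer u.2⟩, u.2⟩
            left_inv := fun x => rfl
            right_inv := fun u => rfl }
      rw [hcardP, map_inv₀, map_natCast]
      field_simp [show (p : ℂ) ≠ 0 from Nat.cast_ne_zero.2 hp.ne_zero]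
    -- both differences equal `χ - χ'`
    have heq : ∀ ω₁, ω₁ ≠ ω₀ → aa χ ω₁ ≠ 0 → (∀ x : N, act x ω₁ ≠ ω'') →
        Cfsg.indFun P (ω₁.1 - ω''.1) = χ.1 - χ'.1 := by
      intro ω₁ hn₁ ha hnc
      obtain ⟨-, e1, e2⟩ := huniq χ hχ ω₁ hn₁ ha
      obtain ⟨-, e3, e4⟩ := huniq χ' hχ' ω'' hω'' h3
      have hi : ∀ ψ : Cfsg.IrrCharacter G, Cfsg.classInner (Cfsg.indFun P (ω₁.1 - ω''.1)) ψ.1 =
          (aa ψ ω₁ : ℂ) - aa ψ ω'' := by
        intro ψ
        rw [classInner_indFun P _ _ (IsIrrCharacter.isClassFunction ψ.2), classInner_sub_left,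
          ← classInner_conj_symm _ ω₁.1, ← classInner_conj_symm _ ω''.1, haa, haa, map_natCast,
          map_natCast]
      have hiχ := hi χ
      have hiχ' := hi χ'
      rw [e1, e4 χ hχ hne.symm] at hiχ
      rw [e2 χ' hχ' hne, e3] at hiχ'
      refine sub_eq_zero.1 (CfsgLib.OddChar.Coh.classInner_self_eq_zero ?_)
      simp only [classInner_sub_left, classInner_sub_right, hinner ω₁ ω'' hn₁ hω'' hnc]
      rw [← classInner_conj_symm (Cfsg.indFun P (ω₁.1 - ω''.1)) χ.1,
        ← classInner_conj_symm (Cfsg.indFun P (ω₁.1 - ω''.1)) χ'.1, hiχ, hiχ',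
        classInner_irr_self χ.2, classInner_irr_self χ'.2,
        classInner_irr_of_ne χ.2 χ'.2 (fun e => hne (Subtype.ext e.symm)),
        classInner_irr_of_ne χ'.2 χ.2 (fun e => hne (Subtype.ext e))]
      norm_num
    have hzero : Cfsg.indFun P (ω.1 - ω'.1) = 0 := by
      rw [show ω.1 - ω'.1 = (ω.1 - ω''.1) - (ω'.1 - ω''.1) by abel, indFun_sub,
        heq ω hω h1 hω12, heq ω' hω' h2 hω22, sub_self]
    have h := hinner ω ω' hω hω' (fun x hx => hno ⟨x, hx⟩)
    rw [hzero, classInner_zero_left] at h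
    norm_num at h
  -- the degree of each
  have hfe : ∀ χ ∈ R', degree χ.1 = Nat.card ↥(N ⊓ stabilizer G a) := by
    intro χ hχ
    obtain ⟨ω₁, hω₁, h₁⟩ := hsupp χ hχ
    let g : ↥(N ⊓ stabilizer G a) → {ω : Cfsg.IrrCharacter P // aa χ ω ≠ 0} := fun x =>
      ⟨act ⟨x, x.2.1⟩ ω₁, by rw [haact]; exact h₁⟩
    have hgb : Function.Bijective g := by
      constructor
      · intro x y hxy
        have h : act ⟨x, x.2.1⟩ ω₁ = act ⟨y, y.2.1⟩ ω₁ := congrArg Subtype.val hxy
        have hz : act (⟨y, y.2.1⟩⁻¹ * ⟨x, x.2.1⟩) ω₁ = ω₁ := by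
          refine Subtype.ext (funext fun u => ?_)
          have h' := congrFun (congrArg Subtype.val h) (cj (⟨y, y.2.1⟩ : N)⁻¹ u)
          simp only [hact] at h' ⊢
          rw [show cj (⟨y, y.2.1⟩⁻¹ * ⟨x, x.2.1⟩) u = cj ⟨x, x.2.1⟩ (cj (⟨y, y.2.1⟩ : N)⁻¹ u) from
            Subtype.ext (by simp [cj, mul_assoc]), h']
          exact congrArg ω₁.1 (Subtype.ext (by simp [cj, mul_assoc]))
        have hP' := hstab ω₁ hω₁ _ hz
        have hfx : ((y : G)⁻¹ * x) • a = a := by
          rw [mul_smul, show (x : G) • a = a from x.2.2, inv_smul_eq_iff, show (y : G) • a = a from y.2.2]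
        exact Subtype.ext (inv_mul_eq_one.1 (hfree a _ hP' hfx)).symm
      · rintro ⟨ω', hω'⟩
        have hω'0 : ω' ≠ ω₀ := by
          rintro rfl
          obtain ⟨hχR, hm⟩ := Finset.mem_filter.1 hχ
          rcases mul_eq_zero.1 (hR0' χ hχR) with h | h
          · exact hm h
          · exact hω' h
        obtain ⟨x, hx⟩ := hconj χ hχ ω₁ ω' hω₁ hω'0 h₁ hω'
        obtain ⟨u, hu, hua⟩ := hN x x.2
        refine ⟨⟨u * x, N.mul_mem (Subgroup.le_normalizer hu) x.2, hua⟩, Subtype.ext ?_⟩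
        refine Eq.trans (Subtype.ext (funext fun w => ?_)) hx
        show ω₁.1 (cj _ w) = ω₁.1 (cj x w)
        refine congrArg ω₁.1 (Subtype.ext ?_)
        show (u * (x : G))⁻¹ * (w : G) * (u * x) = (x : G)⁻¹ * w * x
        have huw : u * (w : G) = w * u := congrArg Subtype.val (hPab ⟨u, hu⟩ w)
        rw [show (u * (x : G))⁻¹ * (w : G) * (u * x) = (x : G)⁻¹ * (u⁻¹ * ((w : G) * u)) * x by group,
          ← huw, inv_mul_cancel_left]
    rw [Nat.card_congr (Equiv.ofBijective g hgb), Nat.card_eq_fintype_card, Fintype.card_subtype,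
      ← hdeg χ, Finset.card_eq_sum_ones, Finset.sum_filter]
    refine Finset.sum_congr rfl fun ω _ => ?_
    by_cases hω : aa χ ω = 0
    · rw [if_neg (not_not.2 hω), hω]
    · have hω0 : ω ≠ ω₀ := by
        rintro rfl
        obtain ⟨hχR, hm⟩ := Finset.mem_filter.1 hχ
        rcases mul_eq_zero.1 (hR0' χ hχR) with h | h
        · exact hm h
        · exact hω h
      rw [if_pos hω, (huniq χ hχ ω hω0 hω).2.1]
  rw [Finset.sum_congr rfl hfe, Finset.sum_const, smul_eq_mul] at hsumdeg
  exact hsumdeg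

end CfsgLib.TwoP
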