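import Cfsg.Agent.Lib.Homog.FourTrans
import Mathlib.GroupTheory.GroupAction.Primitive
import Mathlib.GroupTheory.SpecificGroups.Cyclic

/-!
# Suborbits against the fixed-point-free group on `2p - 2` points
-/

set_option autoImplicit false
set_option linter.unusedSectionVars false

open MulAction

namespace CfsgLib.TwoP

variable {G : Type*} [Group G] [Finite G] {α : Type*} [Fintype α] [MulAction G α] [FaithfulSMul G α]

/-- In a primitive group that is not regular of prime degree a point stabiliser moves every other point. -/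
theorem exists_move (hprim : IsPreprimitive G α) {P : Subgroup G} (hP : P ≠ ⊥) (hPtop : P ≠ ⊤)
    {a y : α} (hy : y ≠ a) : ∃ g : G, g • a = a ∧ g • y ≠ y := by
  by_contra hall
  push Not at hall
  haveI : IsPretransitive G α := hprim.toIsPretransitive
  haveI : Nontrivial α := ⟨⟨y, a, hy⟩⟩
  have hco : IsCoatom (stabilizer G a) := (isCoatom_stabilizer_iff_preprimitive G a).2 hprim
  obtain ⟨h, hh⟩ := exists_smul_eq G a y
  have hnot : h ∉ stabilizer G a := fun hm => hy (hh.symm.trans hm)
  have hle : stabilizer G a ≤ stabilizer G y := fun g hg => hall g hg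
  have heq : stabilizer G a = stabilizer G y := by
    rcases hle.eq_or_lt with e | e
    · exact e
    · have htop := hco.2 _ e
      obtain ⟨k, hk⟩ := exists_smul_eq G y a
      exact absurd (hk.symm.trans (show k • y = y from (htop ▸ Subgroup.mem_top k : k ∈ stabilizer G y))).symm hy
  have hnorm : stabilizer G a < Subgroup.normalizer (stabilizer G a : Set G) := by
    refine lt_of_le_of_ne Subgroup.le_normalizer fun e => hnot ?_
    rw [e, Subgroup.mem_normalizer_iff]
    intro g
    show g • a = a ↔ (h * g * h⁻¹) • a = a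
    have hy' : h⁻¹ • y = a := by rw [inv_smul_eq_iff, hh]
    constructor
    · intro hg
      have h1 : (h * g * h⁻¹) • y = y := by rw [mul_smul, mul_smul, hy', hg, hh]
      have : h * g * h⁻¹ ∈ stabilizer G a := heq ▸ h1
      exact this
    · intro hg
      have h1 : (h * g * h⁻¹) • y = y := hall _ hg
      rw [mul_smul, mul_smul, hy', ← hh] at h1
      exact MulAction.injective h h1
  have htop := hco.2 _ hnorm
  have hbot : stabilizer G a = ⊥ := by
    rw [Subgroup.eq_bot_iff_forall]
    intro g hg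
    refine FaithfulSMul.eq_of_smul_eq_smul (α := α) fun z => ?_
    rw [one_smul]
    obtain ⟨k, rfl⟩ := exists_smul_eq G a z
    have hk : k⁻¹ ∈ Subgroup.normalizer (stabilizer G a : Set G) := htop ▸ Subgroup.mem_top _
    have h1 : (k⁻¹ * g * k) • a = a := by
      have := (Subgroup.mem_normalizer_iff.1 hk g).1 hg
      rw [inv_inv] at this
      exact this
    rwa [mul_smul, mul_smul, inv_smul_eq_iff] at h1
  rw [hbot] at hco
  exact hPtop (hco.2 P (bot_lt_iff_ne_bot.2 hP))

/-- A set of points closed under the stabiliser and one further element is everything. -/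
theorem forall_mem_of_closed (hprim : IsPreprimitive G α) {a : α} [Nontrivial α] {O : Set α} (ha : a ∈ O)
    {w : G} (hw : w • a ≠ a) (hclosed : ∀ g : G, g • a ∈ O → (g * w) • a ∈ O) : ∀ x : α, x ∈ O := by
  haveI : IsPretransitive G α := hprim.toIsPretransitive
  have hco : IsCoatom (stabilizer G a) := (isCoatom_stabilizer_iff_preprimitive G a).2 hprim
  let M : Submonoid G :=
    { carrier := {m | ∀ g : G, g • a ∈ O → (g * m) • a ∈ O}
      one_mem' := fun g hg => by rwa [mul_one]
      mul_mem' := fun {m m'} hm hm' g hg => by rw [← mul_assoc]; exact hm' _ (hm g hg) }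
  let T : Subgroup G :=
    { M with
      inv_mem' := fun {m} hm => by
        have h1 : m⁻¹ ∈ Submonoid.powers m :=
          mem_powers_iff_mem_zpowers.2 (Subgroup.inv_mem _ (Subgroup.mem_zpowers m))
        exact (Submonoid.powers_le (P := M)).2 hm h1 }
  have hle : stabilizer G a ≤ T := fun m hm g hg => by
    rw [mul_smul, show m • a = a from hm]; exact hg
  have hlt : stabilizer G a < T := lt_of_le_of_ne hle fun e => hw (by
    have : w ∈ stabilizer G a := e ▸ (show w ∈ T from hclosed)
    exact this)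
  intro x
  obtain ⟨g, hg⟩ := exists_smul_eq G a x
  have : g ∈ T := hco.2 _ hlt ▸ Subgroup.mem_top g
  have h1 := this 1 (by rwa [one_smul])
  rwa [one_mul, hg] at h1

theorem suborbit_contradiction {p : ℕ} (hp : p.Prime) (hα : Fintype.card α = 2 * p)
    (hprim : IsPreprimitive G α) {σ : G} (hσ : orderOf σ = p)
    (hfree : ∀ (x : α), ∀ g ∈ Subgroup.zpowers σ, g • x = x → g = 1)
    (horb : ∀ a x y : α, x ∉ orbit (Subgroup.zpowers σ) a → y ∉ orbit (Subgroup.zpowers σ) a →
      y ∈ orbit (Subgroup.zpowers σ) x)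
    (hC : ∀ g : G, Commute g σ → g ∈ Subgroup.zpowers σ) (a b₀ : α)
    (hb₀ : b₀ ∉ orbit (Subgroup.zpowers σ) a) {t : ℕ} (ht : 2 ≤ t)
    (hrank : Nat.card (orbitRel.Quotient (stabilizer G a) α) = t + 2)
    (hte : t * Nat.card ↥(Subgroup.normalizer (Subgroup.zpowers σ : Set G) ⊓ stabilizer G a) = p - 1) :
    False := by
  classical
  set P := Subgroup.zpowers σ with hP
  set E := Subgroup.normalizer (P : Set G) ⊓ stabilizer G a with hE
  set e := Nat.card E with he
  have he0 : 0 < e := Nat.card_pos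
  have hp1 := hp.one_lt
  have hPab : ∀ u ∈ P, ∀ v ∈ P, u * v = v * u := fun u hu v hv => by
    obtain ⟨i, rfl⟩ := hu
    obtain ⟨j, rfl⟩ := hv
    exact (Commute.zpow_zpow_self σ i j).eq
  have hPc : Nat.card P = p := (Nat.card_zpowers σ).trans hσ
  have hσ1 : σ ≠ 1 := fun h => by rw [h, orderOf_one] at hσ; exact hp1.ne hσ
  have hEa : ∀ g ∈ E, g • a = a := fun g hg => hg.2
  have hEP : ∀ g ∈ E, ∀ w ∈ P, g * w * g⁻¹ ∈ P := fun g hg w hw =>
    (Subgroup.mem_normalizer_iff.1 hg.1 w).1 hw
  have hEO : ∀ g ∈ E, ∀ x : α, g • x ∈ orbit P a ↔ x ∈ orbit P a := by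
    have key : ∀ g ∈ E, ∀ x : α, x ∈ orbit P a → g • x ∈ orbit P a := by
      rintro g hg _ ⟨⟨w, hw⟩, rfl⟩
      refine ⟨⟨g * w * g⁻¹, hEP g hg w hw⟩, ?_⟩
      show (g * w * g⁻¹) • a = g • w • a
      rw [mul_smul, mul_smul, inv_smul_eq_iff.2 (hEa g hg).symm]
    intro g hg x
    refine ⟨fun h => ?_, key g hg x⟩
    have := key g⁻¹ (E.inv_mem hg) _ h
    rwa [inv_smul_smul] at this
  -- a nontrivial element fixes at most one point in each orbit
  have huniq : ∀ g ∈ E, g ≠ 1 → ∀ x y : α, g • x = x → g • y = y → y ∈ orbit P x → y = x := by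
    rintro g hg hg1 x _ hx hy ⟨⟨w, hw⟩, rfl⟩
    have hy' : g • w • x = w • x := hy
    show w • x = x
    by_cases hw1 : w = 1
    · rw [hw1, one_smul]
    exfalso
    have h1 : (w⁻¹ * (g * w * g⁻¹)) • x = x := by
      rw [mul_smul, mul_smul, mul_smul, inv_smul_eq_iff.2 hx.symm, hy', inv_smul_smul]
    have h2 := hfree x _ (P.mul_mem (P.inv_mem hw) (hEP g hg w hw)) h1
    rw [inv_mul_eq_one, eq_mul_inv_iff_mul_eq] at h2
    have hσw : σ ∈ Subgroup.zpowers w := by
      have hle : Subgroup.zpowers w ≤ P := Subgroup.zpowers_le.2 hw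
      have hd := Subgroup.card_dvd_of_le hle
      rw [hPc, Nat.card_zpowers] at hd
      rcases (Nat.dvd_prime hp).1 hd with h | h
      · exact absurd (orderOf_eq_one_iff.1 h) hw1
      · rw [Subgroup.eq_of_le_of_card_ge hle (by rw [hPc, Nat.card_zpowers, h])]
        exact Subgroup.mem_zpowers σ
    have hcom : Commute g σ := by
      obtain ⟨i, hi⟩ := hσw
      rw [← hi]
      exact (Commute.zpow_right (show Commute g w from h2.symm) i)
    exact hg1 (hfree a g (hC g hcom) (hEa g hg))
  -- existence outside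
  have hexists : ∀ g ∈ E, g ≠ 1 → ∃ z : α, z ∉ orbit P a ∧ g • z = z := by
    intro g hg hg1
    have hgb : g • b₀ ∉ orbit P a := fun h => hb₀ ((hEO g hg b₀).1 h)
    obtain ⟨⟨u, hu⟩, hub⟩ := horb a b₀ (g • b₀) hb₀ hgb
    have hub' : u • b₀ = g • b₀ := hub
    let φ : P → P := fun w => ⟨(g * w * g⁻¹)⁻¹ * w, P.mul_mem (P.inv_mem (hEP g hg w w.2)) w.2⟩
    have hφ : Function.Injective φ := by
      intro w w' hww
      have h : (g * (w : G) * g⁻¹)⁻¹ * w = (g * (w' : G) * g⁻¹)⁻¹ * w' := congrArg Subtype.val hww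
      have h' : g * ((w : G) * (w' : G)⁻¹) * g⁻¹ = (w : G) * (w' : G)⁻¹ := by
        have hA := hEP g hg w w.2
        have hB := hEP g hg w' w'.2
        rw [inv_mul_eq_iff_eq_mul, ← mul_assoc] at h
        have h3 : (w : G) = (g * (w : G) * g⁻¹) * (g * (w' : G) * g⁻¹)⁻¹ * w' := h
        have h4 : (g * (w : G) * g⁻¹) * (g * (w' : G) * g⁻¹)⁻¹ = (w : G) * (w' : G)⁻¹ :=
          eq_mul_inv_of_mul_eq h3.symm
        calc g * ((w : G) * (w' : G)⁻¹) * g⁻¹
            = (g * (w : G) * g⁻¹) * (g * (w' : G) * g⁻¹)⁻¹ := by group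
          _ = _ := h4
      by_contra hne
      have hd : (w : G) * (w' : G)⁻¹ ≠ 1 := fun e => hne (Subtype.ext (mul_inv_eq_one.1 e))
      have hfixa : g • ((w : G) * (w' : G)⁻¹) • a = ((w : G) * (w' : G)⁻¹) • a := by
        conv_rhs => rw [← h']
        rw [mul_smul (g * _), mul_smul g, inv_smul_eq_iff.2 (hEa g hg).symm]
      have := huniq g hg hg1 a _ (hEa g hg) hfixa
        ⟨⟨_, P.mul_mem w.2 (P.inv_mem w'.2)⟩, rfl⟩
      exact hd (hfree a _ (P.mul_mem w.2 (P.inv_mem w'.2)) this)
    obtain ⟨w, hw⟩ := (Finite.injective_iff_surjective.1 hφ) ⟨u, hu⟩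
    have hw' : (g * (w : G) * g⁻¹)⁻¹ * w = u := congrArg Subtype.val hw
    refine ⟨(w : G) • b₀, fun h => hb₀ ?_, ?_⟩
    · obtain ⟨⟨v, hv⟩, hva⟩ := h
      exact ⟨⟨(w : G)⁻¹ * v, P.mul_mem (P.inv_mem w.2) hv⟩, by
        show ((w : G)⁻¹ * v) • a = b₀
        rw [mul_smul, show v • a = (w : G) • b₀ from hva, inv_smul_smul]⟩
    · rw [show g • (w : G) • b₀ = (g * (w : G) * g⁻¹) • g • b₀ by simp [mul_smul], ← hub',
        ← mul_smul]
      congr 1
      rw [← hw', mul_inv_cancel_left]
  have hEcomm : ∀ g ∈ E, ∀ h ∈ E, g * h = h * g := by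
    intro g hg h hh
    obtain ⟨i, hi⟩ := hEP g hg σ (Subgroup.mem_zpowers σ)
    obtain ⟨j, hj⟩ := hEP h hh σ (Subgroup.mem_zpowers σ)
    have hgσ : g * σ * g⁻¹ = σ ^ i := hi.symm
    have hhσ : h * σ * h⁻¹ = σ ^ j := hj.symm
    have h1 : (g * h) * σ * (g * h)⁻¹ = (h * g) * σ * (h * g)⁻¹ := by
      calc (g * h) * σ * (g * h)⁻¹ = g * (h * σ * h⁻¹) * g⁻¹ := by group
        _ = (g * σ * g⁻¹) ^ j := by rw [hhσ, conj_zpow]
        _ = (σ ^ j) ^ i := by rw [hgσ, ← zpow_mul, ← zpow_mul, mul_comm]
        _ = h * (g * σ * g⁻¹) * h⁻¹ := by rw [← hhσ, conj_zpow, hgσ]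
        _ = _ := by group
    have hc : Commute ((h * g)⁻¹ * (g * h)) σ := by
      show _ = _
      calc (h * g)⁻¹ * (g * h) * σ = (h * g)⁻¹ * ((g * h) * σ * (g * h)⁻¹) * (g * h) := by group
        _ = σ * ((h * g)⁻¹ * (g * h)) := by rw [h1]; group
    have hm : (h * g)⁻¹ * (g * h) ∈ E := E.mul_mem (E.inv_mem (E.mul_mem hh hg)) (E.mul_mem hg hh)
    exact (inv_mul_eq_one.1 (hfree a _ (hC _ hc) (hEa _ hm))).symm
  obtain ⟨b, hb, hbfix⟩ : ∃ b, b ∉ orbit P a ∧ ∀ g ∈ E, g • b = b := by
    by_cases hall : ∀ g ∈ E, g = 1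
    · exact ⟨b₀, hb₀, fun g hg => by rw [hall g hg, one_smul]⟩
    push Not at hall
    obtain ⟨g, hg, hg1⟩ := hall
    obtain ⟨b, hb, hgb⟩ := hexists g hg hg1
    refine ⟨b, hb, fun h hh => ?_⟩
    have hhb : h • b ∉ orbit P a := fun h' => hb ((hEO h hh b).1 h')
    refine huniq g hg hg1 b _ hgb ?_ (horb a b _ hb hhb)
    rw [← mul_smul, hEcomm g hg h hh, mul_smul, hgb]
  have hba : b ≠ a := fun h => hb (by rw [h]; exact mem_orbit_self a)
  have hEfree : ∀ g ∈ E, g ≠ 1 → ∀ x : α, g • x = x → x = a ∨ x = b := by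
    intro g hg hg1 x hx
    by_cases hxa : x ∈ orbit P a
    · exact Or.inl (huniq g hg hg1 a x (hEa g hg) hx hxa)
    · exact Or.inr (huniq g hg hg1 b x (hbfix g hg) hx (horb a b x hb hxa))
  have hEcard : ∀ x : α, x ≠ a → x ≠ b → Nat.card (orbit E x) = e := by
    intro x hxa hxb
    have h := (stabilizer E x).index_mul_card
    have hst : stabilizer E x = ⊥ := by
      rw [Subgroup.eq_bot_iff_forall]
      intro g hg
      by_contra hg1
      rcases hEfree g g.2 (fun h => hg1 (Subtype.ext h)) x hg with h | h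
      · exact hxa h
      · exact hxb h
    rw [MulAction.index_stabilizer, hst, Subgroup.card_bot, mul_one] at h
    rw [Nat.card_coe_set_eq, h]
  have hPbot : P ≠ ⊥ := by
    intro h
    rw [h, Subgroup.card_bot] at hPc
    omega
  have hPtop : P ≠ ⊤ := by
    intro h
    haveI : IsPretransitive G α := hprim.toIsPretransitive
    obtain ⟨g, hg⟩ := exists_smul_eq G a b
    exact hb ⟨⟨g, h ▸ Subgroup.mem_top g⟩, hg⟩
  haveI : Nontrivial α := ⟨⟨b, a, hba⟩⟩
  haveI : IsPretransitive G α := hprim.toIsPretransitive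
  set H := stabilizer G a with hH
  have hEH : E ≤ H := inf_le_right
  have hEsub : ∀ y x : α, x ∈ orbit H y → orbit E x ⊆ orbit H y := by
    rintro y x hx _ ⟨g, rfl⟩
    rw [← orbit_eq_iff.2 hx]
    exact ⟨⟨g, hEH g.2⟩, rfl⟩
  -- suborbits avoiding `b`
  have hbig : ∀ y : α, y ≠ a → b ∉ orbit H y → 2 * e ≤ Nat.card (orbit H y) := by
    intro y hy hby
    have hDa : ∀ x ∈ orbit H y, x ≠ a := by
      rintro _ ⟨g, rfl⟩ h
      exact hy (MulAction.injective (g : G) (h.trans (show (g : G) • a = a from g.2).symm))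
    have hdvd : e ∣ Nat.card (orbit H y) := by
      let X : SubMulAction E α :=
        { carrier := orbit H y, smul_mem' := fun g x hx => hEsub y x hx ⟨g, rfl⟩ }
      refine Cfsg.Agent.Lib.Homog.card_dvd_of_free (X := X) fun g x hgx => ?_
      by_contra hg1
      have hx' : (g : G) • (x : α) = x := congrArg Subtype.val hgx
      rcases hEfree g g.2 (fun h => hg1 (Subtype.ext h)) _ hx' with h | h
      · exact hDa _ x.2 h
      · exact hby (h ▸ x.2)
    have hpos : 0 < Nat.card (orbit H y) := by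
      haveI : Nonempty (orbit H y) := ⟨⟨y, mem_orbit_self y⟩⟩
      exact Nat.card_pos
    obtain ⟨c, hc⟩ := hdvd
    rcases Nat.lt_or_ge c 2 with hc2 | hc2
    swap
    · rw [hc, mul_comm 2 e]; exact Nat.mul_le_mul_left e hc2
    exfalso
    obtain rfl : c = 1 := by
      rcases Nat.eq_zero_or_pos c with h | h
      · subst h; omega
      · omega
    rw [mul_one] at hc
    have hyb : y ≠ b := fun h => hby (h ▸ mem_orbit_self y)
    have hsingle : orbit E y = orbit H y := Set.eq_of_subset_of_ncard_le (hEsub y y (mem_orbit_self y))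
      (by rw [← Nat.card_coe_set_eq, ← Nat.card_coe_set_eq, hc, hEcard y hy hyb])
    obtain ⟨h, hh⟩ := exists_smul_eq G a y
    have hmove : h • a ≠ a := by rw [hh]; exact hy
    by_cases hyO : y ∈ orbit P a
    · -- inside one orbit
      have hsame : ∀ z ∈ orbit H y, z ∈ orbit P a := by
        intro z hz
        rw [← hsingle] at hz
        obtain ⟨g, rfl⟩ := hz
        exact (hEO g g.2 y).2 hyO
      refine hb (forall_mem_of_closed hprim (mem_orbit_self a) hmove (fun g hg => ?_) b)
      obtain ⟨⟨w, hw⟩, hwa⟩ := hg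
      have hwa' : w • a = g • a := hwa
      have hk : w⁻¹ * g ∈ H := by
        show (w⁻¹ * g) • a = a
        rw [mul_smul, ← hwa', inv_smul_smul]
      obtain ⟨⟨v, hv⟩, hva⟩ := hsame ((w⁻¹ * g) • y) ⟨⟨_, hk⟩, rfl⟩
      refine ⟨⟨w * v, P.mul_mem hw hv⟩, ?_⟩
      show (w * v) • a = (g * h) • a
      rw [mul_smul, show v • a = (w⁻¹ * g) • y from hva, mul_smul g, hh, mul_smul, smul_inv_smul]
    · -- across the two orbits
      have hother : ∀ z ∈ orbit H y, z ∉ orbit P a := by
        intro z hz hza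
        rw [← hsingle] at hz
        obtain ⟨g, rfl⟩ := hz
        exact hyO ((hEO g g.2 y).1 hza)
      -- the points sending an edge into a point outside are inside
      have hedge : ∀ g : G, g • y ∉ orbit P a → g • a ∈ orbit P a := by
        intro g hgy
        set z := g • y with hz
        let In : Set α := (fun x => g • x) '' (orbit (stabilizer G y) a)
        have hIn : In.ncard = Nat.card (orbit H y) := by
          rw [Set.ncard_image_of_injective _ (MulAction.injective g), Nat.card_coe_set_eq]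
          have h1 := (stabilizer (stabilizer G y) a).index_mul_card
          have h2 := (stabilizer H y).index_mul_card
          rw [MulAction.index_stabilizer] at h1 h2
          have h3 : Nat.card (stabilizer (stabilizer G y) a) = Nat.card (stabilizer H y) :=
            Nat.card_congr
              { toFun := fun k => ⟨⟨((k : stabilizer G y) : G), k.2⟩, (k : stabilizer G y).2⟩
                invFun := fun k => ⟨⟨((k : H) : G), k.2⟩, (k : H).2⟩
                left_inv := fun _ => rfl
                right_inv := fun _ => rfl }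
          have h4 : Nat.card (stabilizer G y) = Nat.card H := by
            have e1 := (stabilizer G y).index_mul_card
            have e2 := (stabilizer G a).index_mul_card
            rw [index_stabilizer_of_transitive] at e1 e2
            exact Nat.eq_of_mul_eq_mul_left Nat.card_pos (e1.trans e2.symm)
          rw [h3, h4] at h1
          exact Nat.eq_of_mul_eq_mul_right Nat.card_pos (h1.trans h2.symm)
        have hw : ∀ δ : orbit H y, ∃ w : P, (w : G) • (δ : α) = z := fun δ => by
          obtain ⟨w, hw⟩ := horb a δ z (hother δ δ.2) hgy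
          exact ⟨w, hw⟩
        choose w hw using hw
        let f : orbit H y → α := fun δ => (w δ : G) • a
        have hf : Function.Injective f := fun δ δ' hd => by
          have h0 : ((w δ : G)⁻¹ * (w δ' : G)) • a = a := by
            rw [mul_smul, ← show f δ = (w δ' : G) • a from hd, inv_smul_smul]
          have hww := inv_mul_eq_one.1 (hfree a _ (P.mul_mem (P.inv_mem (w δ).2) (w δ').2) h0)
          refine Subtype.ext (MulAction.injective (w δ : G) ?_)
          show (w δ : G) • (δ : α) = (w δ : G) • (δ' : α)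
          rw [hw δ, hww, hw δ']
        have hsub : Set.range f ⊆ In := by
          rintro _ ⟨δ, rfl⟩
          obtain ⟨⟨k, hk⟩, hkδ⟩ := δ.2
          have hkδ' : k • y = (δ : α) := hkδ
          refine ⟨(g⁻¹ * (w δ : G) * k) • a, ⟨⟨g⁻¹ * (w δ : G) * k, ?_⟩, rfl⟩, ?_⟩
          · show (g⁻¹ * (w δ : G) * k) • y = y
            rw [mul_smul, mul_smul, hkδ', hw δ, hz, inv_smul_smul]
          · show g • ((g⁻¹ * (w δ : G) * k) • a) = f δ
            rw [← mul_smul, ← mul_assoc, mul_inv_cancel_left, mul_smul, show k • a = a from hk]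
        have heq : Set.range f = In := Set.eq_of_subset_of_ncard_le hsub (by
          rw [hIn, ← Nat.card_coe_set_eq, Nat.card_range_of_injective hf])
        obtain ⟨δ, hδ⟩ : g • a ∈ Set.range f := heq ▸ ⟨a, mem_orbit_self a, rfl⟩
        exact ⟨w δ, hδ⟩
      obtain ⟨k, hk, hkh⟩ : ∃ k ∈ H, (h * k * h) • a ≠ a := by
        by_contra hall
        push Not at hall
        obtain ⟨g, hg, hgy⟩ := exists_move hprim hPbot hPtop hy
        have h1 : (h * h) • a = a := by simpa using hall 1 (one_mem _)
        have h2 : h⁻¹ • a = y := by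
          rw [inv_smul_eq_iff, ← hh, ← mul_smul, h1]
        have h3 := hall g⁻¹ (H.inv_mem hg)
        rw [mul_smul, mul_smul, hh] at h3
        have h4 : g⁻¹ • y = h⁻¹ • a := by rw [eq_inv_smul_iff, h3]
        rw [h2, inv_smul_eq_iff] at h4
        exact hgy h4.symm
      refine hb (forall_mem_of_closed hprim (mem_orbit_self a) hkh (fun g hg => ?_) b)
      obtain ⟨⟨v, hv⟩, hva⟩ := hg
      have hva' : v • a = g • a := hva
      have hk0 : v⁻¹ * g ∈ H := by
        show (v⁻¹ * g) • a = a
        rw [mul_smul, ← hva', inv_smul_smul]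
      set k0 := v⁻¹ * g with hk0def
      have hx : (k0 * h) • a ∉ orbit P a := by
        rw [mul_smul, hh]
        exact hother _ ⟨⟨k0, hk0⟩, rfl⟩
      have hin : (k0 * h * k) • y ∈ orbit P a := by
        by_contra hout
        refine hx ?_
        have := hedge (k0 * h * k) hout
        rwa [mul_smul (k0 * h), show k • a = a from hk] at this
      obtain ⟨⟨v', hv'⟩, hv'a⟩ := hin
      refine ⟨⟨v * v', P.mul_mem hv hv'⟩, ?_⟩
      show (v * v') • a = (g * (h * k * h)) • a
      rw [mul_smul, show v' • a = (k0 * h * k) • y from hv'a, ← hh, ← mul_smul, ← mul_smul]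
      congr 1
      rw [hk0def]; group
  -- the suborbit of `b`
  have hbb : e + 1 ≤ Nat.card (orbit H b) := by
    obtain ⟨g, hg, hgb⟩ := exists_move hprim hPbot hPtop hba
    have hga : g • b ≠ a := fun h => hba (MulAction.injective g (h.trans hg.symm))
    have hsub : insert b (orbit E (g • b)) ⊆ orbit H b :=
      Set.insert_subset (mem_orbit_self b) (hEsub b _ ⟨⟨g, hg⟩, rfl⟩)
    have hnot : b ∉ orbit E (g • b) := by
      rintro ⟨x, hx⟩
      refine hgb (MulAction.injective (x : G) ?_)
      show (x : G) • g • b = (x : G) • b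
      rw [hbfix x x.2]; exact hx
    have := Set.ncard_le_ncard hsub
    rw [Set.ncard_insert_of_notMem hnot, ← Nat.card_coe_set_eq, ← Nat.card_coe_set_eq,
      hEcard _ hga hgb] at this
    exact this
  -- the count
  haveI : Fintype (orbitRel.Quotient H α) := Fintype.ofFinite _
  have hsize : ∀ y : α, Nat.card (orbitRel.Quotient.orbit (Quotient.mk'' y : orbitRel.Quotient H α)) =
      Nat.card (orbit H y) := fun y => by rw [orbitRel.Quotient.orbit_mk]
  have hsum : Fintype.card α =
      ∑ q : orbitRel.Quotient H α, Nat.card (orbitRel.Quotient.orbit q) := by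
    rw [← Nat.card_eq_fintype_card, Nat.card_congr (selfEquivSigmaOrbits' H α), Nat.card_sigma]
  set q0 : orbitRel.Quotient H α := Quotient.mk'' a with hq0
  set qb : orbitRel.Quotient H α := Quotient.mk'' b with hqb
  have hne : qb ≠ q0 := fun h => by
    obtain ⟨g, hg⟩ := orbitRel_apply.1 (Quotient.eq''.1 h)
    exact hba (hg.symm.trans g.2)
  rw [← Finset.add_sum_erase _ _ (Finset.mem_univ q0),
    ← Finset.add_sum_erase _ _ (Finset.mem_erase.2 ⟨hne, Finset.mem_univ qb⟩), hqb, hsize] at hsum
  rw [← hqb] at hsum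
  have hz : 1 ≤ Nat.card (orbitRel.Quotient.orbit q0) := by
    rw [hq0, hsize]
    haveI : Nonempty (orbit H a) := ⟨⟨a, mem_orbit_self a⟩⟩
    exact Nat.card_pos
  have hlow : ∀ q ∈ (Finset.univ.erase q0).erase qb, 2 * e ≤ Nat.card (orbitRel.Quotient.orbit q) := by
    intro q hq
    obtain ⟨hqb', hq'⟩ := Finset.mem_erase.1 hq
    induction q using Quotient.inductionOn' with | h y =>
    rw [hsize]
    refine hbig y (fun h => (Finset.ne_of_mem_erase hq') (by rw [h])) (fun h => hqb' ?_)
    exact (Quotient.eq''.2 (orbitRel_apply.2 h)).symm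
  have hcard : ((Finset.univ.erase q0).erase qb).card = t := by
    rw [Finset.card_erase_of_mem (Finset.mem_erase.2 ⟨hne, Finset.mem_univ qb⟩),
      Finset.card_erase_of_mem (Finset.mem_univ _), Finset.card_univ, ← Nat.card_eq_fintype_card, hrank]
    omega
  have h2 := Finset.card_nsmul_le_sum _ _ _ hlow
  rw [hcard, smul_eq_mul, mul_left_comm, hte] at h2
  rw [hα] at hsum
  have hqac : Nat.card (orbitRel.Quotient.orbit q0) = Nat.card (orbit H a) := hsize a
  have hqbc : Nat.card (orbitRel.Quotient.orbit qb) = Nat.card (orbit H b) := hsize b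
  omega

end CfsgLib.TwoP
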