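import Cfsg.Agent.Lib.TwoP.Degrees
import Cfsg.Agent.Lib.TwoP.Suborbits
import Cfsg.Agent.Lib.PermChar.WielandtType
import Mathlib.GroupTheory.GroupAction.MultipleTransitivity

/-!
# Primitive groups of degree `2p`
-/

set_option autoImplicit false
set_option linter.unusedSectionVars false

open MulAction

namespace CfsgLib.TwoP

theorem int_unit_eq_one_of_pow_odd {z : ℤˣ} {n : ℕ} (hn : Odd n) (h : z ^ n = 1) : z = 1 := by
  rcases Int.units_eq_one_or z with rfl | rfl
  · rfl
  · rw [hn.neg_one_pow] at h; exact h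

variable {α : Type*} [Fintype α] [DecidableEq α] {G : Subgroup (Equiv.Perm α)} {p : ℕ}

/-- An element of the normaliser interchanging the two orbits is odd. -/
theorem swap_odd (hp : p.Prime) (hp2 : p ≠ 2) (hα : Fintype.card α = 2 * p)
    (hG : IsPreprimitive G α) (h2 : ¬ IsMultiplyPretransitive G α 2) {σ : G} (hσ : orderOf σ = p)
    {x : G} (hx : x ∈ Subgroup.normalizer (Subgroup.zpowers σ : Set G)) {a : α}
    (hxa : x • a ∉ orbit (Subgroup.zpowers σ) a) :
    Equiv.Perm.sign (x : Equiv.Perm α) = -1 := by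
  classical
  set P := Subgroup.zpowers σ with hP
  have hPc : Nat.card P = p := (Nat.card_zpowers σ).trans hσ
  haveI : Fintype P := Fintype.ofFinite _
  have hfree := pow_free hp hα hG h2 hσ
  have horb := fun u v w => mem_orbit_of_notMem hp hα hG h2 hσ u (x := v) (y := w)
  have hodd : Odd p := hp.odd_of_ne_two hp2
  have hxx : x • x • a ∈ orbit P a := by
    by_contra h
    obtain ⟨⟨w, hw⟩, hwx⟩ := horb a (x • a) (x • x • a) hxa h
    have hwx' : w • x • a = x • x • a := hwx
    refine hxa ⟨⟨x⁻¹ * w * x, (Subgroup.mem_normalizer_iff''.1 hx w).1 hw⟩, ?_⟩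
    show (x⁻¹ * w * x) • a = x • a
    rw [mul_smul, mul_smul, hwx', inv_smul_smul]
  obtain ⟨d, hd⟩ := hxx
  have hd' : (d : G) • a = x • x • a := hd
  let c : Equiv.Perm P :=
    { toFun := fun u => ⟨x * u * x⁻¹, (Subgroup.mem_normalizer_iff.1 hx u).1 u.2⟩
      invFun := fun u => ⟨x⁻¹ * u * x, (Subgroup.mem_normalizer_iff''.1 hx u).1 u.2⟩
      left_inv := fun u => Subtype.ext (by simp [mul_assoc])
      right_inv := fun u => Subtype.ext (by simp [mul_assoc]) }
  let f : P × Bool → α := fun u => if u.2 then (u.1 : G) • x • a else (u.1 : G) • a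
  have hf : Function.Bijective f := by
    rw [Fintype.bijective_iff_injective_and_card]
    refine ⟨?_, by rw [Fintype.card_prod, Fintype.card_bool, ← Nat.card_eq_fintype_card, hPc, hα, mul_comm]⟩
    rintro ⟨u, i⟩ ⟨v, j⟩ h
    have key : ∀ y : α, (u : G) • y = (v : G) • y → u = v := fun y hy => by
      have := hfree _ (P.mul_mem (P.inv_mem v.2) u.2) y (by rw [mul_smul, hy, inv_smul_smul])
      exact Subtype.ext (inv_mul_eq_one.1 this).symm
    cases i <;> cases j <;> simp only [f, Bool.false_eq_true, if_false, if_true] at h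
    · rw [key a h]
    · exact absurd ⟨⟨(v : G)⁻¹ * u, P.mul_mem (P.inv_mem v.2) u.2⟩, by
        show ((v : G)⁻¹ * u) • a = x • a
        rw [mul_smul, h, inv_smul_smul]⟩ hxa
    · exact absurd ⟨⟨(u : G)⁻¹ * v, P.mul_mem (P.inv_mem u.2) v.2⟩, by
        show ((u : G)⁻¹ * v) • a = x • a
        rw [mul_smul, ← h, inv_smul_smul]⟩ hxa
    · rw [key (x • a) h]
  let e : P × Bool ≃ α := Equiv.ofBijective f hf
  let A : Equiv.Perm (P × Bool) := Equiv.prodCongrLeft fun _ : Bool => c
  let C : Equiv.Perm (P × Bool) :=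
    Equiv.prodCongrLeft fun i : Bool => if i then Equiv.mulRight d else 1
  let B : Equiv.Perm (P × Bool) := Equiv.prodCongrRight fun _ : P => Equiv.swap false true
  have heq : (x : Equiv.Perm α) = e.permCongr (B * C * A) := by
    refine Equiv.ext fun y => ?_
    obtain ⟨⟨u, i⟩, rfl⟩ := e.surjective y
    rw [Equiv.permCongr_apply, Equiv.symm_apply_apply]
    show x • f (u, i) = f ((B * C * A) (u, i))
    cases i
    · simp only [f, A, B, C, Equiv.Perm.mul_apply, Equiv.prodCongrLeft_apply,
        Equiv.prodCongrRight_apply, Bool.false_eq_true, if_false, if_true, Equiv.Perm.one_apply,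
        Equiv.swap_apply_left]
      show x • (u : G) • a = (x * u * x⁻¹) • x • a
      rw [← mul_smul, ← mul_smul, inv_mul_cancel_right]
    · simp only [f, A, B, C, Equiv.Perm.mul_apply, Equiv.prodCongrLeft_apply,
        Equiv.prodCongrRight_apply, Bool.false_eq_true, if_false, if_true, Equiv.coe_mulRight,
        Equiv.swap_apply_right]
      show x • (u : G) • x • a = (x * u * x⁻¹ * d) • a
      simp only [mul_smul, hd', inv_smul_smul]
  rw [heq, Equiv.Perm.sign_permCongr, map_mul, map_mul]
  have hd1 : Equiv.Perm.sign (Equiv.mulRight d) = 1 := by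
    refine int_unit_eq_one_of_pow_odd hodd ?_
    have h1 : ∀ n : ℕ, ∀ u : P, ((Equiv.mulRight d) ^ n) u = u * d ^ n := by
      intro n
      induction n with
      | zero => intro u; simp
      | succ n ih =>
        intro u
        rw [pow_succ, Equiv.Perm.mul_apply, Equiv.coe_mulRight, ih, pow_succ', mul_assoc]
    have hdp : d ^ p = 1 := by
      rw [← hPc]; exact pow_card_eq_one'
    rw [← map_pow, show (Equiv.mulRight d) ^ p = 1 from Equiv.ext fun u => by rw [h1, hdp, mul_one]; rfl,
      map_one]
  have hB : Equiv.Perm.sign B = -1 := by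
    rw [Equiv.Perm.sign_prodCongrRight, Finset.prod_const,
      Equiv.Perm.sign_swap (by decide), Finset.card_univ, ← Nat.card_eq_fintype_card, hPc,
      hodd.neg_one_pow]
  have hC : Equiv.Perm.sign C = 1 := by
    rw [Equiv.Perm.sign_prodCongrLeft, Fintype.prod_bool]
    simp [hd1]
  have hA : Equiv.Perm.sign A = 1 := by
    rw [Equiv.Perm.sign_prodCongrLeft, Fintype.prod_bool, Int.units_mul_self]
  rw [hA, hB, hC, mul_one, mul_one]

/-- The even case: rank three and the subdegrees. -/
theorem even_case (hp : p.Prime) (hp2 : p ≠ 2) (hα : Fintype.card α = 2 * p)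
    (hG : IsPreprimitive G α) (h2 : ¬ IsMultiplyPretransitive G α 2)
    (halt : G ≤ alternatingGroup α) (a : α) :
    Nat.card (orbitRel.Quotient (stabilizer G a) α) = 3 ∧
      ∃ k : ℕ, 0 < k ∧ p = 2 * k ^ 2 + 2 * k + 1 ∧ ∀ b : α, b ≠ a →
        Nat.card (orbit (stabilizer G a) b) = k * (2 * k + 1) ∨
          Nat.card (orbit (stabilizer G a) b) = (k + 1) * (2 * k + 1) := by
  classical
  haveI : IsPretransitive G α := hG.toIsPretransitive
  obtain ⟨σ, hσ⟩ := exists_sigma hp hα hG
  have hfree : ∀ (x : α), ∀ g ∈ Subgroup.zpowers σ, g • x = x → g = 1 :=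
    fun x g hg hx => pow_free hp hα hG h2 hσ g hg x hx
  have hN : ∀ x ∈ Subgroup.normalizer (Subgroup.zpowers σ : Set G),
      ∃ u ∈ Subgroup.zpowers σ, (u * x) • a = a := by
    intro x hx
    by_cases hxa : x • a ∈ orbit (Subgroup.zpowers σ) a
    · obtain ⟨⟨w, hw⟩, hwa⟩ := hxa
      refine ⟨w⁻¹, Subgroup.inv_mem _ hw, ?_⟩
      rw [mul_smul, inv_smul_eq_iff]
      exact hwa.symm
    · have h := swap_odd hp hp2 hα hG h2 hσ hx hxa
      rw [Equiv.Perm.mem_alternatingGroup.1 (halt x.2)] at h
      exact absurd h (by decide)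
  have hC : ∀ g : G, Commute g σ → g ∈ Subgroup.zpowers σ := by
    intro g hg
    have hgn : g ∈ Subgroup.normalizer (Subgroup.zpowers σ : Set G) := by
      rw [Subgroup.mem_normalizer_iff]
      intro v
      constructor
      · rintro ⟨i, rfl⟩
        exact ⟨i, by show σ ^ i = g * σ ^ i * g⁻¹; rw [(hg.zpow_right i).eq, mul_inv_cancel_right]⟩
      · rintro ⟨i, hi⟩
        refine ⟨i, ?_⟩
        have hi' : σ ^ i = g * v * g⁻¹ := hi
        show σ ^ i = v
        calc σ ^ i = g⁻¹ * σ ^ i * g := by rw [mul_assoc, ← (hg.zpow_right i).eq, inv_mul_cancel_left]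
          _ = v := by rw [hi']; group
    obtain ⟨u, hu, hua⟩ := hN g hgn
    have hcu : Commute u σ := by
      obtain ⟨i, rfl⟩ := hu
      exact Commute.zpow_self σ i
    have := centralizer_free hp hα hG h2 hσ (u * g) (hcu.mul_left hg) a hua
    rw [mul_eq_one_iff_inv_eq] at this
    exact this ▸ Subgroup.inv_mem _ hu
  haveI : Fintype G := Fintype.ofFinite _
  rcases constituents hp hα hG h2 hσ hfree a hC hN with ⟨hr, χ₁, χ₂, h₁, h₂, hπ, hd₁, hd₂⟩ | ⟨t, ht, hr, hte⟩
  · exact ⟨hr, CfsgLib.PermChar.wielandt_type hG hα a hr h₁ h₂ hπ hd₁ hd₂⟩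
  · obtain ⟨b, hb⟩ := exists_not_mem hp hα hG h2 hσ a
    exact (suborbit_contradiction hp hα hG hσ hfree
      (fun u v w hv hw => mem_orbit_of_notMem hp hα hG h2 hσ u hv hw) hC a b hb ht hr hte).elim

theorem wielandt_two_p (hp : p.Prime) (hα : Fintype.card α = 2 * p) (hG : IsPreprimitive G α)
    (a : α) :
    IsMultiplyPretransitive G α 2 ∨ (Nat.card (orbitRel.Quotient (stabilizer G a) α) = 3 ∧
      ∃ k : ℕ, 0 < k ∧ p = 2 * k ^ 2 + 2 * k + 1 ∧ ∀ b : α, b ≠ a →
        Nat.card (orbit (stabilizer G a) b) = k * (2 * k + 1) ∨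
          Nat.card (orbit (stabilizer G a) b) = (k + 1) * (2 * k + 1)) := by
  classical
  by_cases h2 : IsMultiplyPretransitive G α 2
  · exact Or.inl h2
  right
  haveI := Fact.mk hp
  haveI : IsPretransitive G α := hG.toIsPretransitive
  haveI : Nontrivial α := Fintype.one_lt_card_iff_nontrivial.1 (by have := hp.two_le; omega)
  have hco : IsCoatom (stabilizer G a) := (isCoatom_stabilizer_iff_preprimitive G a).2 hG
  have hnormal : ∀ M : Subgroup G, M.Normal → M ≤ stabilizer G a → M = ⊥ := by
    intro M hM hle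
    rw [Subgroup.eq_bot_iff_forall]
    intro g hg
    refine Subtype.ext (Equiv.ext fun y => ?_)
    show g • y = y
    obtain ⟨k, rfl⟩ := exists_smul_eq G a y
    have h' : (k⁻¹ * g * k) • a = a := hle (by simpa using hM.conj_mem g hg k⁻¹)
    rwa [mul_smul, mul_smul, inv_smul_eq_iff] at h'
  rcases eq_or_ne p 2 with hp2 | hp2
  · -- degree four
    exfalso
    subst hp2
    by_cases h3 : 3 ∣ Nat.card G
    · haveI := Fact.mk Nat.prime_three
      obtain ⟨g, hg⟩ := exists_prime_orderOf_dvd_card' 3 h3
      have hg' : (g : Equiv.Perm α) ^ 3 = 1 := by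
        rw [← Subgroup.coe_pow, ← hg, pow_orderOf_eq_one]; rfl
      have hmod := Cfsg.Agent.Lib.Homog.card_fix_modEq (g : Equiv.Perm α) Nat.prime_three hg'
      rw [hα] at hmod
      obtain ⟨y, hy⟩ : ∃ y : α, g • y = y := by
        by_contra hno
        push Not at hno
        rw [show (Finset.univ.filter fun y : α => (g : Equiv.Perm α) y = y).card = 0 from
          Finset.card_eq_zero.2 (Finset.filter_eq_empty_iff.2 fun y _ => hno y)] at hmod
        exact absurd hmod (by decide)
      have hg1 : g ≠ 1 := fun h => by rw [h, orderOf_one] at hg; norm_num at hg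
      -- the stabiliser of `y` is transitive on the other three points
      refine h2 (rank_two_imp y ?_)
      haveI : Fintype (orbitRel.Quotient (stabilizer G y) α) := Fintype.ofFinite _
      obtain ⟨z, hz⟩ : ∃ z : α, g • z ≠ z := by
        by_contra hall
        push Not at hall
        exact hg1 (Subtype.ext (Equiv.ext hall))
      have hzy : z ≠ y := fun h => hz (by rw [h]; exact hy)
      have hgz : g • z ≠ y := fun h => hzy (MulAction.injective g (h.trans hy.symm))
      have hggz : g • g • z ≠ y := fun h => hgz (MulAction.injective g (h.trans hy.symm))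
      have h3z : g • g • g • z = z := by
        rw [← mul_smul, ← mul_smul, ← pow_three', ← hg, pow_orderOf_eq_one, one_smul]
      have hne2 : g • g • z ≠ z := fun h => hz (by
        have := congrArg (g • ·) h
        simp only [h3z] at this
        exact this.symm)
      have huniv : ({y, z, g • z, g • g • z} : Finset α) = Finset.univ := by
        refine Finset.eq_univ_of_card _ ?_
        rw [Finset.card_insert_of_notMem (by simp [hzy.symm, hgz.symm, hggz.symm]),
          Finset.card_insert_of_notMem (by simp [Ne.symm hz, hne2.symm]),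
          Finset.card_pair (fun h => hz (MulAction.injective g h).symm), hα]
      have hgm : g ∈ stabilizer G y := hy
      have hmk : ∀ w : α, w ≠ y → (Quotient.mk'' w : orbitRel.Quotient (stabilizer G y) α) = Quotient.mk'' z := by
        intro w hw
        refine Quotient.eq''.2 (orbitRel_apply.2 ?_)
        have := huniv.symm ▸ Finset.mem_univ w
        simp only [Finset.mem_insert, Finset.mem_singleton] at this
        rcases this with rfl | rfl | rfl | rfl
        · exact absurd rfl hw
        · exact mem_orbit_self _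
        · exact ⟨⟨g, hgm⟩, rfl⟩
        · exact ⟨⟨g * g, mul_mem hgm hgm⟩, mul_smul g g z⟩
      have hq : (Finset.univ : Finset (orbitRel.Quotient (stabilizer G y) α)) =
          {Quotient.mk'' y, Quotient.mk'' z} := by
        refine (Finset.eq_univ_of_forall fun q => ?_).symm
        induction q using Quotient.inductionOn' with | h w =>
        simp only [Finset.mem_insert, Finset.mem_singleton]
        by_cases hw : w = y
        · exact Or.inl (by rw [hw])
        · exact Or.inr (hmk w hw)
      rw [Nat.card_eq_fintype_card, ← Finset.card_univ, hq, Finset.card_pair]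
      intro h
      obtain ⟨k, hk⟩ := orbitRel_apply.1 (Quotient.eq''.1 h)
      exact hzy (MulAction.injective (k : G) (hk.trans (show (k : G) • y = y from k.2).symm))
    · have h24 : Nat.card G ∣ 2 ^ 3 * 3 := by
        have := Subgroup.card_subgroup_dvd_card G
        rw [Nat.card_perm, Nat.card_eq_fintype_card (α := α), hα] at this
        exact this
      have h8 : Nat.card G ∣ 2 ^ 3 :=
        ((Nat.Prime.coprime_iff_not_dvd Nat.prime_three).2 h3).symm.dvd_of_dvd_mul_right h24
      obtain ⟨i, -, hi⟩ := (Nat.dvd_prime_pow Nat.prime_two).1 h8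
      have hp' : IsPGroup 2 G := IsPGroup.of_card hi
      haveI := hp'.isNilpotent
      have hn : (stabilizer G a).Normal :=
        Subgroup.NormalizerCondition.normal_of_coatom (stabilizer G a) Group.normalizerCondition_of_isNilpotent hco
      have hb := hnormal _ hn le_rfl
      have h1 := (stabilizer G a).index_mul_card
      rw [index_stabilizer_of_transitive, hb, Subgroup.card_bot, mul_one,
        Nat.card_eq_fintype_card (α := α), hα] at h1
      obtain ⟨g, hg⟩ := exists_prime_orderOf_dvd_card' 2 (G := G) (h1 ▸ dvd_mul_right 2 2)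
      have := hco.2 (Subgroup.zpowers g) (by
        rw [hb, bot_lt_iff_ne_bot]
        intro h
        rw [Subgroup.zpowers_eq_bot] at h
        rw [h, orderOf_one] at hg; norm_num at hg)
      have h3' := congrArg (fun S : Subgroup G => Nat.card S) this
      simp only [Nat.card_zpowers, Subgroup.card_top, hg] at h3'
      omega
  have hodd : Odd p := hp.odd_of_ne_two hp2
  obtain ⟨σ, hσ⟩ := exists_sigma hp hα hG
  have heven : ∀ g : G, g ^ p = 1 → (g : Equiv.Perm α) ∈ alternatingGroup α := by
    intro g hg
    rw [Equiv.Perm.mem_alternatingGroup]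
    refine int_unit_eq_one_of_pow_odd hodd ?_
    rw [← map_pow, ← Subgroup.coe_pow, hg]
    simp
  set G₀ : Subgroup (Equiv.Perm α) := G ⊓ alternatingGroup α with hG₀
  let A : Subgroup G := (alternatingGroup α).subgroupOf G
  have hAn : A.Normal := Subgroup.normal_subgroupOf
  have hσA : σ ∈ A := heven σ (by rw [← hσ, pow_orderOf_eq_one])
  have hσ1 : σ ≠ 1 := fun h => by rw [h, orderOf_one] at hσ; exact hp.one_lt.ne hσ
  haveI hAtr : IsPretransitive A α :=
    IsQuasiPreprimitive.isPretransitive_of_normal (N := A) (by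
      intro h
      refine hσ1 (Subtype.ext (Equiv.ext fun y => ?_))
      exact (h ▸ Set.mem_univ y : y ∈ fixedPoints A α) ⟨σ, hσA⟩)
  have hG₀tr : IsPretransitive G₀ α := ⟨fun u v => by
    obtain ⟨⟨g, hg⟩, h⟩ := exists_smul_eq A u v
    exact ⟨⟨g, g.2, hg⟩, h⟩⟩
  haveI := hG₀tr
  let ι : G₀ →* G := Subgroup.inclusion inf_le_left
  have hι : Function.Injective ι := Subgroup.inclusion_injective _
  have hι' : ∀ (g : G₀) (y : α), ι g • y = g • y := fun _ _ => rfl
  have hAι : ∀ g : G, g ∈ A → ∃ g₀ : G₀, ι g₀ = g := fun g hg => ⟨⟨g, g.2, hg⟩, rfl⟩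
  have hG₀prim : IsPreprimitive G₀ α := by
    rw [← isCoatom_stabilizer_iff_preprimitive G₀ a]
    refine ⟨fun h => ?_, fun H hH => ?_⟩
    · obtain ⟨b, hb⟩ := exists_ne a
      obtain ⟨g, hg⟩ := exists_smul_eq G₀ a b
      exact hb (hg.symm.trans (show g • a = a from (h ▸ Subgroup.mem_top g : g ∈ stabilizer G₀ a)))
    by_contra hHtop
    have hidx : (stabilizer G₀ a).relIndex H * H.index = 2 * p := by
      rw [Subgroup.relIndex_mul_index hH.le, index_stabilizer_of_transitive,
        Nat.card_eq_fintype_card, hα]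
    have hr1 : (stabilizer G₀ a).relIndex H ≠ 1 := fun h => hH.not_ge (Subgroup.relIndex_eq_one.1 h)
    have hi1 : H.index ≠ 1 := fun h => hHtop (Subgroup.index_eq_one.1 h)
    rcases Nat.even_or_odd H.index with hev | hodd'
    · -- index two
      have hi2 : H.index = 2 := by
        obtain ⟨j, hj⟩ := hev
        have hdvd : j ∣ p := ⟨(stabilizer G₀ a).relIndex H, by
          rw [hj] at hidx; nlinarith⟩
        rcases (Nat.dvd_prime hp).1 hdvd with h | h
        · omega
        · exfalso
          rw [hj, h] at hidx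
          exact hr1 (by nlinarith [hp.pos])
      let K : Subgroup G := Subgroup.closure {g | g ^ p = 1}
      have hKn : K.Normal := Subgroup.normalizer_eq_top_iff.1 (top_le_iff.1
        (Subgroup.le_normalizer_closure_iff.2 fun k _ g hg => Subgroup.subset_closure (by
          show (k * g * k⁻¹) ^ p = 1
          rw [conj_pow, show g ^ p = 1 from hg, mul_one, mul_inv_cancel])))
      have hσK : σ ∈ K := Subgroup.subset_closure (show σ ^ p = 1 by rw [← hσ, pow_orderOf_eq_one])
      have hKle : K ≤ H.map ι := by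
        rw [Subgroup.closure_le]
        intro g hg
        obtain ⟨g₀, rfl⟩ := hAι g (heven g hg)
        refine ⟨g₀, ?_, rfl⟩
        have hgp : g₀ ^ p = 1 := hι (by rw [map_pow, map_one]; exact hg)
        obtain ⟨j, hj⟩ := hodd
        have : g₀ = (g₀ ^ 2) ^ (j + 1) := by
          rw [← pow_mul, show 2 * (j + 1) = p + 1 by omega, pow_succ, hgp, one_mul]
        rw [this]
        exact H.pow_mem (Subgroup.sq_mem_of_index_two hi2 g₀) _
      haveI := hKn
      haveI : IsPretransitive K α := IsQuasiPreprimitive.isPretransitive_of_normal (N := K) (by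
        intro h
        refine hσ1 (Subtype.ext (Equiv.ext fun y => ?_))
        exact (h ▸ Set.mem_univ y : y ∈ fixedPoints K α) ⟨σ, hσK⟩)
      refine hHtop (eq_top_iff.2 fun g _ => ?_)
      obtain ⟨⟨k, hk⟩, hka⟩ := exists_smul_eq K a (g • a)
      obtain ⟨k₀, hk₀, rfl⟩ := hKle hk
      have : k₀⁻¹ * g ∈ H := hH.le (show (k₀⁻¹ * g) • a = a by
        rw [mul_smul, inv_smul_eq_iff]; exact hka.symm)
      simpa using H.mul_mem hk₀ this
    · -- index p
      obtain ⟨j, hj⟩ : 2 ∣ (stabilizer G₀ a).relIndex H := by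
        refine (Nat.coprime_two_left.2 hodd').dvd_of_dvd_mul_right ?_
        rw [hidx]; exact dvd_mul_right 2 p
      have hj1 : j = 1 := by
        have hdvd : j ∣ p := ⟨H.index, by rw [hj] at hidx; nlinarith⟩
        rcases (Nat.dvd_prime hp).1 hdvd with h | h
        · exact h
        · exfalso
          rw [hj, h] at hidx
          exact hi1 (by nlinarith [hp.pos])
      rw [hj1, mul_one] at hj
      obtain ⟨w, hwH, hw⟩ := SetLike.exists_of_lt hH
      have hnormH : ∀ k ∈ stabilizer G₀ a, w * k * w⁻¹ ∈ stabilizer G₀ a := by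
        intro k hk
        haveI hn : ((stabilizer G₀ a).subgroupOf H).Normal := Subgroup.normal_of_index_eq_two hj
        exact hn.conj_mem ⟨k, hH.le hk⟩ hk ⟨w, hwH⟩
      let S : Subgroup G := A ⊓ stabilizer G a
      have hSn : stabilizer G a < Subgroup.normalizer (S : Set G) := by
        refine lt_of_le_of_ne (fun k hk => ?_) fun e => hw ?_
        · rw [Subgroup.mem_normalizer_iff]
          intro g
          have hka : k • a = a := hk
          constructor
          · rintro ⟨hgA, hga⟩
            refine ⟨hAn.conj_mem g hgA k, ?_⟩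
            show (k * g * k⁻¹) • a = a
            rw [mul_smul, mul_smul, inv_smul_eq_iff.2 hka.symm, show g • a = a from hga, hka]
          · rintro ⟨hgA, hga⟩
            refine ⟨by simpa [mul_assoc] using hAn.conj_mem _ hgA k⁻¹, ?_⟩
            have hga' : (k * g * k⁻¹) • a = a := hga
            rw [mul_smul, mul_smul, inv_smul_eq_iff.2 hka.symm] at hga'
            exact MulAction.injective k (hga'.trans hka.symm)
        · have hwn : ι w ∈ Subgroup.normalizer (S : Set G) := by
            suffices h : S.map (MulAut.conj (ι w)).toMonoidHom = S from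
              Subgroup.mem_normalizer_iff_map_conj_eq.2 h
            refine Subgroup.eq_of_le_of_card_ge ?_
              (by rw [Subgroup.card_map_of_injective (MulAut.conj (ι w)).injective])
            rintro _ ⟨g, ⟨hgA, hga⟩, rfl⟩
            obtain ⟨g₀, rfl⟩ := hAι g hgA
            refine ⟨hAn.conj_mem _ hgA _, ?_⟩
            exact hnormH g₀ hga
          rw [← e] at hwn
          exact hwn
      haveI : S.Normal := Subgroup.normalizer_eq_top_iff.1 (hco.2 _ hSn)
      have hS : S = ⊥ := hnormal S inferInstance inf_le_right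
      have hcard : Nat.card G₀ = 2 * p := by
        have h1 := (stabilizer G₀ a).index_mul_card
        rw [index_stabilizer_of_transitive, Nat.card_eq_fintype_card (α := α), hα] at h1
        have : stabilizer G₀ a = ⊥ := by
          rw [Subgroup.eq_bot_iff_forall]
          intro g hg
          refine hι ?_
          have : ι g ∈ S := ⟨g.2.2, hg⟩
          rwa [hS, Subgroup.mem_bot, ← map_one ι] at this
        rw [← h1, this, Subgroup.card_bot, mul_one]
      obtain ⟨σ₀, hσ₀⟩ := hAι σ hσA
      have hσ₀p : orderOf σ₀ = p := by rw [← hσ, ← hσ₀, orderOf_injective ι hι]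
      have hidx2 : (Subgroup.zpowers σ₀).index = 2 := by
        have := (Subgroup.zpowers σ₀).index_mul_card
        rw [Nat.card_zpowers, hσ₀p, hcard] at this
        exact Nat.eq_of_mul_eq_mul_right hp.pos this
      have hPn : (Subgroup.zpowers σ).Normal := by
        refine ⟨fun g hg k => ?_⟩
        obtain ⟨i, rfl⟩ := hg
        rw [← conj_zpow]
        refine Subgroup.zpow_mem _ ?_ i
        have hcp : (k * σ * k⁻¹) ^ p = 1 := by
          rw [conj_pow, ← hσ, pow_orderOf_eq_one, mul_one, mul_inv_cancel]
        obtain ⟨g₀, hg₀⟩ := hAι _ (heven _ hcp)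
        have hgp : g₀ ^ p = 1 := hι (by rw [map_pow, map_one, hg₀, hcp])
        obtain ⟨j, hj⟩ := hodd
        have hmem : g₀ ∈ Subgroup.zpowers σ₀ := by
          have : g₀ = (g₀ ^ 2) ^ (j + 1) := by
            rw [← pow_mul, show 2 * (j + 1) = p + 1 by omega, pow_succ, hgp, one_mul]
          rw [this]
          exact Subgroup.pow_mem _ (Subgroup.sq_mem_of_index_two hidx2 g₀) _
        obtain ⟨l, hl⟩ := hmem
        exact ⟨l, by rw [← hg₀, ← hl, map_zpow, hσ₀]⟩
      haveI := hPn
      haveI : IsPretransitive (Subgroup.zpowers σ) α :=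
        IsQuasiPreprimitive.isPretransitive_of_normal (N := Subgroup.zpowers σ) (by
          intro h
          refine hσ1 (Subtype.ext (Equiv.ext fun y => ?_))
          exact (h ▸ Set.mem_univ y : y ∈ fixedPoints (Subgroup.zpowers σ) α)
            ⟨σ, Subgroup.mem_zpowers σ⟩)
      obtain ⟨b, hb⟩ := exists_not_mem hp hα hG h2 hσ a
      exact hb (exists_smul_eq (Subgroup.zpowers σ) a b)
  have h20 : ¬ IsMultiplyPretransitive G₀ α 2 := by
    intro h
    refine h2 ?_
    rw [is_two_pretransitive_iff] at h ⊢
    intro u v w z huv hwz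
    obtain ⟨g, hg1, hg2⟩ := h huv hwz
    exact ⟨ι g, hg1, hg2⟩
  obtain ⟨hr, k, hk, hpk, hsub⟩ := even_case hp hp2 hα hG₀prim h20 inf_le_right a
  -- compare the suborbits
  let F : orbitRel.Quotient (stabilizer G₀ a) α → orbitRel.Quotient (stabilizer G a) α :=
    Quotient.map' id fun u v h => by
      obtain ⟨g, hg⟩ := orbitRel_apply.1 h
      exact orbitRel_apply.2 ⟨⟨ι g, g.2⟩, hg⟩
  have hF : Function.Surjective F := fun q => by
    induction q using Quotient.inductionOn' with | h y => exact ⟨Quotient.mk'' y, rfl⟩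
  have hle : Nat.card (orbitRel.Quotient (stabilizer G a) α) ≤ 3 := hr ▸ Nat.card_le_card_of_surjective F hF
  have hge : 3 ≤ Nat.card (orbitRel.Quotient (stabilizer G a) α) := by
    by_contra hlt
    haveI : Finite (orbitRel.Quotient (stabilizer G a) α) := inferInstance
    obtain ⟨b, hb⟩ := exists_ne a
    have h1 : 2 ≤ Nat.card (orbitRel.Quotient (stabilizer G a) α) := by
      refine Finite.one_lt_card_iff_nontrivial.2 ⟨Quotient.mk'' a, Quotient.mk'' b, fun h => ?_⟩
      obtain ⟨g, hg⟩ := orbitRel_apply.1 (Quotient.eq''.1 h)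
      exact hb (MulAction.injective (g : G) (hg.trans (show (g : G) • a = a from g.2).symm))
    exact h2 (rank_two_imp a (by omega))
  refine ⟨by omega, k, hk, hpk, fun b hb => ?_⟩
  have hFi : Function.Injective F :=
    (hF.bijective_of_nat_card_le (by omega)).1
  have heq : orbit (stabilizer G a) b = orbit (stabilizer G₀ a) b := by
    refine Set.Subset.antisymm ?_ ?_
    · intro y hy
      exact orbitRel_apply.1 (Quotient.eq''.1 (hFi (a₁ := Quotient.mk'' y) (a₂ := Quotient.mk'' b)
        (Quotient.eq''.2 (orbitRel_apply.2 hy))))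
    · rintro _ ⟨g, rfl⟩
      exact ⟨⟨ι g, g.2⟩, rfl⟩
  rw [heq]
  exact hsub b hb

end CfsgLib.TwoP
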